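import Cfsg.Agent.Classification.PSLTwoGeneral.Zassenhaus
import Cfsg.Agent.CharactersDeep.ZassenhausTransfer
import Cfsg.Agent.S0741
import Cfsg.Agent.S0885

/-!
# Zassenhaus groups with an abelian kernel
-/

set_option autoImplicit false
set_option linter.style.haveILetI false
set_option linter.unusedSectionVars false

namespace CfsgLib.Classification.PSLTwoGeneral

open MulAction

variable {G Ω : Type*} [Group G] [Finite G] [MulAction G Ω] [Fintype Ω]

/-- The two-point stabiliser acts semiregularly on the other points. -/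
theorem card_pair_stab_dvd (hZ : Cfsg.IsZassenhausGroup G Ω) {a b : Ω} (hab : a ≠ b) :
    Nat.card ↥(stabilizer G a ⊓ stabilizer G b) ∣ Fintype.card Ω - 2 ∧
      (Nat.card ↥(stabilizer G a ⊓ stabilizer G b) = Fintype.card Ω - 2 →
        ∀ c d : Ω, c ≠ a → c ≠ b → d ≠ a → d ≠ b →
          ∃ g : G, g • a = a ∧ g • b = b ∧ g • c = d) := by
  classical
  set D := stabilizer G a ⊓ stabilizer G b with hD
  have hDmem : ∀ x : D, (x : G) • a = a ∧ (x : G) • b = b := fun x => Subgroup.mem_inf.1 x.2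
  let X := {c : Ω // c ≠ a ∧ c ≠ b}
  letI : MulAction D X :=
    { smul := fun g x => ⟨(g : G) • x.1,
        fun h => x.2.1 (smul_left_cancel (g : G) (h.trans (hDmem g).1.symm)),
        fun h => x.2.2 (smul_left_cancel (g : G) (h.trans (hDmem g).2.symm))⟩
      one_smul := fun x => Subtype.ext (one_smul G x.1)
      mul_smul := fun g h x => Subtype.ext (mul_smul (g : G) (h : G) x.1) }
  have hfree : ∀ (g : D) (x : X), g • x = x → g = 1 := fun g x h =>
    Subtype.ext (CfsgLib.Zassenhaus.eq_one hZ hab (Ne.symm x.2.2) (Ne.symm x.2.1) (hDmem g).1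
      (hDmem g).2 (congrArg Subtype.val h))
  have hX : Nat.card X = Fintype.card Ω - 2 := by
    rw [Nat.card_eq_fintype_card, Fintype.card_subtype]
    have : (Finset.univ.filter fun c : Ω => c ≠ a ∧ c ≠ b) = ({a, b} : Finset Ω)ᶜ := by
      ext c; simp
    rw [this, Finset.card_compl, Finset.card_pair hab]
  rw [← hX]
  refine ⟨?_, fun heq c d hca hcb hda hdb => ?_⟩
  · rw [Nat.card_congr (selfEquivSigmaOrbits D X), Nat.card_sigma]
    refine Finset.dvd_sum fun w _ => ?_
    have hinj : Function.Injective fun g : D =>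
        (⟨g • Quotient.out w, mem_orbit _ g⟩ : orbit D (Quotient.out w)) := fun g g' h => by
      have h' : g • Quotient.out w = g' • Quotient.out w := congrArg Subtype.val h
      have h2 : (g'⁻¹ * g) • Quotient.out w = Quotient.out w := by
        rw [mul_smul, h', inv_smul_smul]
      exact (inv_mul_eq_one.1 (hfree _ _ h2)).symm
    rw [Nat.card_eq_of_bijective _ ⟨hinj, fun ⟨y, g, hg⟩ => ⟨g, Subtype.ext hg⟩⟩]
  · have hinj : Function.Injective fun g : D => g • (⟨c, hca, hcb⟩ : X) := fun g g' h => by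
      have h2 : (g'⁻¹ * g) • (⟨c, hca, hcb⟩ : X) = ⟨c, hca, hcb⟩ := by
        rw [mul_smul, show g • (⟨c, hca, hcb⟩ : X) = g' • ⟨c, hca, hcb⟩ from h, inv_smul_smul]
      exact (inv_mul_eq_one.1 (hfree _ _ h2)).symm
    obtain ⟨g, hg⟩ := ((Nat.bijective_iff_injective_and_card _).2 ⟨hinj, heq⟩).2 ⟨d, hda, hdb⟩
    exact ⟨g, (hDmem g).1, (hDmem g).2, congrArg Subtype.val hg⟩

/-- With an abelian kernel the two-point stabiliser has order at least `(n - 1) / 2`. -/
theorem pair_stab_large (hZ : Cfsg.IsZassenhausGroup G Ω) {a b : Ω} (hab : a ≠ b)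
    {Q : Subgroup G} (hQle : Q ≤ stabilizer G a)
    (hQfix : ∀ x ∈ Q, x ≠ 1 → ∀ c : Ω, x • c = c → c = a)
    (hQcard : Nat.card Q + 1 = Nat.card Ω) (hQcomm : ∀ x ∈ Q, ∀ y ∈ Q, x * y = y * x) :
    Fintype.card Ω - 2 ≤ 2 * Nat.card ↥(stabilizer G a ⊓ stabilizer G b) := by
  rcases Nat.even_or_odd (Nat.card ↥(stabilizer G a ⊓ stabilizer G b)) with heven | hodd
  · exact Cfsg.Agent.S0741.result hZ hab heven
  rw [Nat.card_eq_fintype_card (α := Ω)] at hQcard
  rcases Cfsg.Agent.S0885.result hZ hab (Fintype.card Ω - 1) _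
    (by omega) rfl hodd Q hQle hQcard hQfix with h | ⟨-, ⟨u, v, huv⟩, -⟩
  · omega
  · exact absurd (Subtype.ext (hQcomm u u.2 v v.2)) huv

/-- A Zassenhaus group with an abelian kernel is sharply triply transitive or `PSL(2, n)`. -/
theorem abelian_kernel_cases (hZ : Cfsg.IsZassenhausGroup G Ω) {a : Ω}
    {Q : Subgroup G} (hQle : Q ≤ stabilizer G a)
    (hQn : ∀ h ∈ stabilizer G a, ∀ x ∈ Q, h * x * h⁻¹ ∈ Q)
    (hQfix : ∀ x ∈ Q, x ≠ 1 → ∀ c : Ω, x • c = c → c = a)
    (hQcard : Nat.card Q + 1 = Nat.card Ω) (hQcomm : ∀ x ∈ Q, ∀ y ∈ Q, x * y = y * x) :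
    (IsMultiplyPretransitive G Ω 3 ∧ ∀ t : Fin 3 ↪ Ω, stabilizer G t = ⊥) ∨
      ∃ (K : Type) (_ : Field K) (_ : Fintype K), Odd (Fintype.card K) ∧ 5 ≤ Fintype.card K ∧
        Fintype.card Ω = Fintype.card K + 1 ∧
        Nonempty (G ≃* Matrix.ProjectiveSpecialLinearGroup (Fin 2) K) := by
  classical
  haveI := hZ.1
  obtain ⟨b, hb⟩ := CfsgLib.Zassenhaus.exists_ne hZ a
  have hab : a ≠ b := hb.symm
  obtain ⟨hdvd, htrans⟩ := card_pair_stab_dvd hZ hab
  have hlarge := pair_stab_large hZ hab hQle hQfix hQcard hQcomm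
  set D := stabilizer G a ⊓ stabilizer G b with hD
  have hΩ := CfsgLib.Perm.Zassenhaus.card_ge_three hZ
  have hd0 : 0 < Nat.card D := Nat.card_pos
  have hcases : Nat.card D = Fintype.card Ω - 2 ∨ 2 * Nat.card D = Fintype.card Ω - 2 := by
    obtain ⟨k, hk⟩ := hdvd
    rcases k with _ | _ | _ | k
    · omega
    · left; omega
    · right; omega
    · nlinarith
  rcases hcases with hfull | hhalf
  · left
    have hto : ∀ t : Fin 3 ↪ Ω, ∃ g : G, g • t 0 = a ∧ g • t 1 = b ∧ g • t 2 ≠ a ∧ g • t 2 ≠ b := by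
      intro t
      obtain ⟨g, hg0, hg1⟩ :=
        is_two_pretransitive_iff.1 hZ.2.1 (t.injective.ne (by decide : (0 : Fin 3) ≠ 1)) hab
      refine ⟨g, hg0, hg1, fun h => ?_, fun h => ?_⟩
      · exact absurd (t.injective (smul_left_cancel g (h.trans hg0.symm))) (by decide)
      · exact absurd (t.injective (smul_left_cancel g (h.trans hg1.symm))) (by decide)
    refine ⟨⟨fun t t' => ?_⟩, fun t => (Subgroup.eq_bot_iff_forall _).2 fun g hg => ?_⟩
    · obtain ⟨g, hg0, hg1, hga, hgb⟩ := hto t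
      obtain ⟨g', hg0', hg1', hga', hgb'⟩ := hto t'
      obtain ⟨k, hka, hkb, hkc⟩ := htrans hfull _ _ hga hgb hga' hgb'
      refine ⟨g'⁻¹ * k * g, Function.Embedding.ext fun i => ?_⟩
      show (g'⁻¹ * k * g) • t i = t' i
      rw [mul_smul, mul_smul, inv_smul_eq_iff]
      match i with
      | 0 => rw [hg0, hka, hg0']
      | 1 => rw [hg1, hkb, hg1']
      | 2 => exact hkc
    · have h : ∀ i, g • t i = t i := fun i =>
        (congrArg (fun f : Fin 3 ↪ Ω => f i) hg : (g • t) i = t i)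
      exact CfsgLib.Zassenhaus.eq_one hZ (t.injective.ne (by decide : (0 : Fin 3) ≠ 1))
        (t.injective.ne (by decide : (1 : Fin 3) ≠ 2)) (t.injective.ne (by decide : (0 : Fin 3) ≠ 2))
        (h 0) (h 1) (h 2)
  right
  rcases Nat.even_or_odd (Nat.card D) with heven | hodd
  · exact exists_equiv_of_zassenhaus hZ hab heven hhalf.le
  -- the group is simple
  have hm2 : 2 ≤ Nat.card D := by
    obtain ⟨x, hx1, hxa, hxb⟩ := CfsgLib.Zassenhaus.exists_fix_two hZ hab
    haveI : Nontrivial D := ⟨⟨x, Subgroup.mem_inf.2 ⟨hxa, hxb⟩⟩, 1, fun h => hx1 (congrArg Subtype.val h)⟩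
    exact Finite.one_lt_card
  haveI : Nontrivial G := by
    obtain ⟨g, hg, -⟩ := hZ.2.2.2.1
    exact ⟨⟨g, 1, hg⟩⟩
  haveI : IsSimpleGroup G := by
    refine ⟨fun N hN => ?_⟩
    by_cases hNbot : N = ⊥
    · exact Or.inl hNbot
    right
    haveI := hN
    have hQN : Q ≤ N := CfsgLib.Zassenhaus.kernel_le_normal' hZ N hNbot a hQle hQn hQfix
    have hZN := CfsgLib.Zassenhaus.normal_isZassenhaus hZ N hNbot
    have h := pair_stab_large (G := N) hZN hab (Q := Q.subgroupOf N) (fun x hx => hQle hx)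
      (fun x hx hx1 c hc => hQfix x hx (fun e => hx1 (Subtype.ext e)) c hc)
      (by rw [Nat.card_congr (Subgroup.subgroupOfEquivOfLe hQN).toEquiv, hQcard])
      (fun x hx y hy => Subtype.ext (hQcomm x hx y hy))
    have hDN : D ≤ N := by
      let f : ↥(stabilizer N a ⊓ stabilizer N b) → D := fun x => ⟨(x.1 : G),
        Subgroup.mem_inf.2 ⟨(Subgroup.mem_inf.1 x.2).1, (Subgroup.mem_inf.1 x.2).2⟩⟩
      have hf : Function.Injective f := fun x y h =>
        Subtype.ext (Subtype.ext (congrArg Subtype.val h :))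
      have hfb := hf.bijective_of_nat_card_le (by omega)
      intro x hx
      obtain ⟨y, hy⟩ := hfb.2 ⟨x, hx⟩
      have e : (y.1 : G) = x := congrArg Subtype.val hy
      rw [← e]
      exact y.1.2
    refine eq_top_iff.2 fun g _ => ?_
    haveI := CfsgLib.Zassenhaus.pretransitive_normal hZ N hNbot
    obtain ⟨n, hn⟩ := IsPretransitive.exists_smul_eq (M := N) a (g • a)
    have hga : ((n : G)⁻¹ * g) • a = a := by
      rw [mul_smul, inv_smul_eq_iff]; exact hn.symm
    have hgb : ((n : G)⁻¹ * g) • b ≠ a := fun h =>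
      hab.symm ((smul_left_cancel_iff ((n : G)⁻¹ * g)).1 (h.trans hga.symm))
    obtain ⟨⟨x, hx⟩, hxb, -⟩ :=
      CfsgLib.CharactersDeep.Zassenhaus.orbit_bijective hQle hQcard hQfix hab.symm _ hgb
    have hk : x⁻¹ * ((n : G)⁻¹ * g) ∈ D := Subgroup.mem_inf.2
      ⟨mul_mem (inv_mem (hQle hx)) hga, by rw [mem_stabilizer_iff, mul_smul, ← hxb, inv_smul_smul]⟩
    rw [show g = (n : G) * (x * (x⁻¹ * ((n : G)⁻¹ * g))) by group]
    exact mul_mem n.2 (mul_mem (hQN hx) (hDN hk))
  obtain ⟨s, hs2, hsa, hsb⟩ := CfsgLib.Perm.Zassenhaus.exists_invol_swap hZ hab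
  exact exists_equiv_of_kernel hZ hab hQle hQn hQfix hQcard hQcomm hhalf hm2
    (by rw [← pow_two, ← hs2, pow_orderOf_eq_one]) hsa
    fun h hh => CfsgLib.CharactersDeep.ZassenhausOdd.inverts hZ hab hodd hsa hsb hh

end CfsgLib.Classification.PSLTwoGeneral
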