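import Mathlib.Algebra.Field.TransferInstance
import Mathlib.Algebra.Ring.Subring.Basic
import Mathlib.RingTheory.LittleWedderburn
import Mathlib.GroupTheory.QuotientGroup.Basic

/-!
# A field from an irreducible abelian group of automorphisms

A nontrivial finite abelian group with a family of commuting endomorphisms without common
invariant proper nontrivial subgroup is the additive group of a field in which the endomorphisms
are multiplications.
-/

set_option autoImplicit false
set_option linter.style.haveILetI false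

namespace CfsgLib.Classification.PSLTwoGeneral

/-- Schur's lemma for a commuting family, in the form of a field structure. -/
theorem exists_field_of_irreducible {A : Type*} [AddCommGroup A] [Finite A] {ι : Type*}
    (ρ : ι → AddMonoid.End A) (hcomm : ∀ i j, ρ i * ρ j = ρ j * ρ i) (e : A) (he : e ≠ 0)
    (hirr : ∀ W : AddSubgroup A, (∀ i, ∀ a ∈ W, ρ i a ∈ W) → W = ⊥ ∨ W = ⊤) :
    ∃ (F : Type) (_ : Field F) (_ : Fintype F) (τ : F ≃+ A),
      Nat.card F = Nat.card A ∧ τ 1 = e ∧ ∀ i : ι, ∃ a : F, ∀ x, τ (a * x) = ρ i (τ x) := by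
  classical
  set S : Set (AddMonoid.End A) := Set.range ρ
  have hS : ∀ x ∈ S, ∀ y ∈ S, x * y = y * x := by
    rintro _ ⟨i, rfl⟩ _ ⟨j, rfl⟩; exact hcomm i j
  letI : CommRing (Subring.closure S) := Subring.closureCommRingOfComm hS
  have hc : ∀ r ∈ Subring.closure S, ∀ i a, r (ρ i a) = ρ i (r a) := by
    intro r hr i a
    exact DFunLike.congr_fun (congrArg Subtype.val
      (mul_comm (⟨r, hr⟩ : Subring.closure S) ⟨ρ i, Subring.subset_closure ⟨i, rfl⟩⟩)) a
  have hker : ∀ r ∈ Subring.closure S, r ≠ 0 → ∀ a, r a = 0 → a = 0 := by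
    intro r hr hr0 a ha
    obtain ⟨W, hW⟩ : ∃ W : AddSubgroup A, ∀ b, b ∈ W ↔ r b = 0 :=
      ⟨{ carrier := {b | r b = 0}
         zero_mem' := map_zero r
         add_mem' := fun {x y} (hx : r x = 0) (hy : r y = 0) =>
           show r (x + y) = 0 by rw [map_add, hx, hy, add_zero]
         neg_mem' := fun {x} (hx : r x = 0) => show r (-x) = 0 by rw [map_neg, hx, neg_zero] },
        fun b => Iff.rfl⟩
    rcases hirr W (fun i b hb => by
      rw [hW] at hb ⊢
      rw [hc r hr i b, hb, map_zero]) with h | h
    · have := (hW a).2 ha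
      rwa [h, AddSubgroup.mem_bot] at this
    · refine absurd (AddMonoidHom.ext fun b => ?_) hr0
      exact (hW b).1 (h ▸ AddSubgroup.mem_top b)
  let ev : Subring.closure S →+ A :=
    { toFun := fun r => (r : AddMonoid.End A) e
      map_zero' := rfl
      map_add' := fun _ _ => rfl }
  have hev : Function.Bijective ev := by
    refine ⟨(injective_iff_map_eq_zero ev).2 fun r hr => Subtype.ext (by
      by_contra h0
      exact he (hker r r.2 h0 e hr)), fun a => ?_⟩
    rcases hirr ev.range (fun i b hb => by
      obtain ⟨r, rfl⟩ := hb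
      exact ⟨⟨ρ i, Subring.subset_closure ⟨i, rfl⟩⟩ * r, rfl⟩) with h | h
    · have : e ∈ ev.range := ⟨1, rfl⟩
      rw [h, AddSubgroup.mem_bot] at this
      exact absurd this he
    · exact (h ▸ AddSubgroup.mem_top a : a ∈ ev.range)
  haveI : Nontrivial A := ⟨⟨e, 0, he⟩⟩
  haveI : Finite (Subring.closure S) := Finite.of_equiv A (Equiv.ofBijective ev hev).symm
  haveI : Nontrivial (Subring.closure S) := (Equiv.ofBijective ev hev).nontrivial
  haveI : NoZeroDivisors (Subring.closure S) := by
    refine ⟨fun {r s} hrs => ?_⟩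
    by_cases hs : s = 0
    · exact Or.inr hs
    by_cases hr : r = 0
    · exact Or.inl hr
    have h1 : (r : AddMonoid.End A) ((s : AddMonoid.End A) e) = 0 :=
      DFunLike.congr_fun (congrArg Subtype.val hrs) e
    exact absurd (hker r r.2 (fun h => hr (Subtype.ext h)) _ h1)
      (fun h => he (hker s s.2 (fun h => hs (Subtype.ext h)) _ h))
  haveI : IsDomain (Subring.closure S) := NoZeroDivisors.to_isDomain _
  haveI := Fintype.ofFinite (Subring.closure S)
  let fR : Field (Subring.closure S) := Fintype.fieldOfDomain _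
  let eF : {k : ℕ // k < Fintype.card (Subring.closure S)} ≃ Subring.closure S :=
    Fin.equivSubtype.symm.trans (Fintype.equivFin _).symm
  letI fF : Field {k : ℕ // k < Fintype.card (Subring.closure S)} := @Equiv.field _ _ eF fR
  let iso : {k : ℕ // k < Fintype.card (Subring.closure S)} ≃+* Subring.closure S :=
    { eF with
      map_mul' := fun x y => eF.apply_symm_apply _
      map_add' := fun x y => eF.apply_symm_apply _ }
  let τ : {k : ℕ // k < Fintype.card (Subring.closure S)} ≃+ A :=
    iso.toAddEquiv.trans (AddEquiv.ofBijective ev hev)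
  have hone : τ 1 = e := by
    show ev (iso 1) = e
    rw [map_one]; rfl
  refine ⟨_, fF, Fintype.ofEquiv _ eF.symm, τ, Nat.card_congr τ.toEquiv, hone, fun i => ?_⟩
  refine ⟨iso.symm ⟨ρ i, Subring.subset_closure ⟨i, rfl⟩⟩, fun x => ?_⟩
  show ev (iso (iso.symm _ * x)) = ρ i (ev (iso x))
  rw [map_mul, iso.apply_symm_apply]
  rfl

end CfsgLib.Classification.PSLTwoGeneral
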