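import Cfsg.Agent.Classification.PSLTwoGeneral.Main
import Cfsg.Agent.Zassenhaus.Basic
import Cfsg.Agent.Perm.Zassenhaus
import Cfsg.Agent.CharactersDeep.Zassenhaus

/-!
# Zassenhaus groups with a small two-point stabiliser of even order
-/

set_option autoImplicit false
set_option linter.style.haveILetI false
set_option linter.unusedSectionVars false

namespace CfsgLib.Classification.PSLTwoGeneral

open MulAction

variable {G Ω : Type*} [Group G] [Finite G] [MulAction G Ω] [Fintype Ω]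

/-- If the two-point stabiliser has even order `d` with `2 d ≤ n - 1`, every element exchanging the
two points is an involution, and `2 d = n - 1`. -/
theorem swap_sq_eq_one (hZ : Cfsg.IsZassenhausGroup G Ω) {a b : Ω} (hab : a ≠ b)
    (heven : Even (Nat.card ↥(stabilizer G a ⊓ stabilizer G b)))
    (hd : 2 * Nat.card ↥(stabilizer G a ⊓ stabilizer G b) ≤ Fintype.card Ω - 2) :
    2 * Nat.card ↥(stabilizer G a ⊓ stabilizer G b) = Fintype.card Ω - 2 ∧
      ∀ s : G, s • a = b → s • b = a → s * s = 1 := by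
  classical
  haveI := hZ.1
  haveI : Fintype G := Fintype.ofFinite G
  have h3 := CfsgLib.Perm.Zassenhaus.card_ge_three hZ
  haveI := Fact.mk Nat.prime_two
  obtain ⟨t₀, ht₀⟩ := exists_prime_orderOf_dvd_card'
    (G := ↥(MulAction.stabilizer G a ⊓ MulAction.stabilizer G b)) 2 heven.two_dvd
  -- involutions with two fixed points
  let I : Finset G := {t : G | t ≠ 1 ∧ t * t = 1 ∧ Nat.card (MulAction.fixedBy Ω t) = 2}
  let P : Finset (Ω × Ω) := {q : Ω × Ω | q.1 ≠ q.2}
  let F : Ω × Ω → Finset G := fun q => I.filter fun t => t • q.1 = q.1 ∧ t • q.2 = q.2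
  let W : Ω × Ω → Finset G := fun q => I.filter fun t => t • q.1 = q.2
  have hconj : ∀ (g t : G), g * t * g⁻¹ ∈ I ↔ t ∈ I := by
    intro g t
    simp only [I, Finset.mem_filter, Finset.mem_univ, true_and]
    have e1 : g * t * g⁻¹ ≠ 1 ↔ t ≠ 1 := conj_eq_one_iff.not
    have e2 : g * t * g⁻¹ * (g * t * g⁻¹) = 1 ↔ t * t = 1 := by
      rw [conj_mul, conj_eq_one_iff]
    have e3 : Nat.card (MulAction.fixedBy Ω (g * t * g⁻¹)) = Nat.card (MulAction.fixedBy Ω t) := by
      refine Nat.card_congr ((MulAction.toPerm g⁻¹ : Equiv.Perm Ω).subtypeEquiv fun x => ?_)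
      show (g * t * g⁻¹) • x = x ↔ t • g⁻¹ • x = g⁻¹ • x
      rw [mul_smul, mul_smul, ← eq_inv_smul_iff]
    rw [e1, e2, e3]
  have hconst : ∀ q ∈ P, (F q).card = (F (a, b)).card ∧ (W q).card = (W (a, b)).card := by
    rintro ⟨u, v⟩ huv
    simp only [P, Finset.mem_filter, Finset.mem_univ, true_and] at huv
    obtain ⟨g, hgu, hgv⟩ := MulAction.is_two_pretransitive_iff.1 hZ.2.1 huv hab
    constructor
    · refine Finset.card_equiv (MulAut.conj g).toEquiv (fun t => ?_)
      simp only [F, Finset.mem_filter, MulEquiv.toEquiv_eq_coe, EquivLike.coe_coe, MulAut.conj_apply,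
        hconj]
      rw [mul_smul, mul_smul, mul_smul, mul_smul, ← hgu, ← hgv, inv_smul_smul, inv_smul_smul,
        (MulAction.injective g).eq_iff, (MulAction.injective g).eq_iff]
    · refine Finset.card_equiv (MulAut.conj g).toEquiv (fun t => ?_)
      simp only [W, Finset.mem_filter, MulEquiv.toEquiv_eq_coe, EquivLike.coe_coe, MulAut.conj_apply,
        hconj]
      rw [mul_smul, mul_smul, ← hgu, ← hgv, inv_smul_smul, (MulAction.injective g).eq_iff]
  -- double counting
  have hfixc : ∀ t ∈ I, (P.filter fun q => t • q.1 = q.1 ∧ t • q.2 = q.2).card = 2 := by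
    intro t ht
    simp only [I, Finset.mem_filter, Finset.mem_univ, true_and] at ht
    obtain ⟨x, y, hxy, hset⟩ := Set.ncard_eq_two.1 ((Nat.card_coe_set_eq _).symm.trans ht.2.2)
    have hiff : ∀ z, t • z = z ↔ z = x ∨ z = y := fun z => by
      rw [← MulAction.mem_fixedBy, hset]; simp
    have : (P.filter fun q => t • q.1 = q.1 ∧ t • q.2 = q.2) = {(x, y), (y, x)} := by
      ext ⟨u, v⟩
      simp only [P, Finset.mem_filter, Finset.mem_univ, true_and, hiff, Finset.mem_insert,
        Finset.mem_singleton, Prod.mk.injEq]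
      constructor
      · rintro ⟨huv, h1 | h1, h2 | h2⟩ <;> subst h1 <;> subst h2
        · exact absurd rfl huv
        · exact Or.inl ⟨rfl, rfl⟩
        · exact Or.inr ⟨rfl, rfl⟩
        · exact absurd rfl huv
      · rintro (⟨rfl, rfl⟩ | ⟨rfl, rfl⟩)
        · exact ⟨hxy, Or.inl rfl, Or.inr rfl⟩
        · exact ⟨hxy.symm, Or.inr rfl, Or.inl rfl⟩
    rw [this, Finset.card_pair (fun h => hxy (congrArg Prod.fst h))]
  have hswc : ∀ t ∈ I, (P.filter fun q => t • q.1 = q.2).card = Fintype.card Ω - 2 := by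
    intro t ht
    simp only [I, Finset.mem_filter, Finset.mem_univ, true_and] at ht
    have e : (P.filter fun q => t • q.1 = q.2) =
        ((MulAction.fixedBy Ω t).toFinset)ᶜ.image (fun u => (u, t • u)) := by
      ext ⟨u, v⟩
      simp only [P, Finset.mem_filter, Finset.mem_univ, true_and, Finset.mem_image,
        Finset.mem_compl, Set.mem_toFinset, MulAction.mem_fixedBy, Prod.mk.injEq]
      constructor
      · rintro ⟨huv, rfl⟩; exact ⟨u, fun h => huv h.symm, rfl, rfl⟩
      · rintro ⟨w, hw, rfl, rfl⟩; exact ⟨fun h => hw h.symm, rfl⟩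
    rw [e, Finset.card_image_of_injective _ (fun x y h => congrArg Prod.fst h), Finset.card_compl,
      ← Set.ncard_eq_toFinset_card', ← Nat.card_coe_set_eq, ht.2.2]
  have e1 : ∑ t ∈ I, (P.filter fun q => t • q.1 = q.1 ∧ t • q.2 = q.2).card = ∑ q ∈ P, (F q).card := by
    simp only [Finset.card_filter, F]
    exact Finset.sum_comm
  have e2 : ∑ t ∈ I, (P.filter fun q => t • q.1 = q.2).card = ∑ q ∈ P, (W q).card := by
    simp only [Finset.card_filter, W]
    exact Finset.sum_comm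
  rw [Finset.sum_congr rfl hfixc, Finset.sum_congr rfl (fun q hq => (hconst q hq).1),
    Finset.sum_const, Finset.sum_const, smul_eq_mul, smul_eq_mul] at e1
  rw [Finset.sum_congr rfl hswc, Finset.sum_congr rfl (fun q hq => (hconst q hq).2),
    Finset.sum_const, Finset.sum_const, smul_eq_mul, smul_eq_mul] at e2
  have hPpos : 0 < P.card := Finset.card_pos.2 ⟨(a, b), by simp [P, hab]⟩
  have hF1 : 1 ≤ (F (a, b)).card := by
    refine Finset.card_pos.2 ⟨t₀, ?_⟩
    have ho : orderOf (t₀ : G) = 2 := by rw [Subgroup.orderOf_coe, ht₀]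
    have hne : (t₀ : G) ≠ 1 := fun e => by rw [e, orderOf_one] at ho; omega
    simp only [F, I, Finset.mem_filter, Finset.mem_univ, true_and]
    refine ⟨⟨hne, by rw [← pow_two, ← ho, pow_orderOf_eq_one], ?_⟩, t₀.2.1, t₀.2.2⟩
    have h1 := CfsgLib.Perm.Zassenhaus.fixedBy_le_two hZ hne
    have h2 : ({a, b} : Set Ω).ncard ≤ (MulAction.fixedBy Ω (t₀ : G)).ncard :=
      Set.ncard_le_ncard (Set.insert_subset t₀.2.1 (Set.singleton_subset_iff.2 t₀.2.2)) (Set.toFinite _)
    rw [Set.ncard_pair hab, ← Nat.card_coe_set_eq] at h2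
    omega
  have hWd : (W (a, b)).card ≤ Nat.card ↥(MulAction.stabilizer G a ⊓ MulAction.stabilizer G b) := by
    have hswap : ∀ t ∈ W (a, b), t • a = b ∧ t • b = a := by
      intro t ht
      simp only [W, I, Finset.mem_filter, Finset.mem_univ, true_and] at ht
      exact ⟨ht.2, by rw [← ht.2, smul_smul, ht.1.2.1, one_smul]⟩
    rcases (W (a, b)).eq_empty_or_nonempty with h0 | ⟨r, hr⟩
    · rw [h0]; simp
    obtain ⟨hra, hrb⟩ := hswap r hr
    rw [← Fintype.card_coe, ← Nat.card_eq_fintype_card]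
    refine Nat.card_le_card_of_injective (fun t => (⟨r * t.1, ?_, ?_⟩ :
      ↥(MulAction.stabilizer G a ⊓ MulAction.stabilizer G b))) ?_
    · show (r * t.1) • a = a
      rw [mul_smul, (hswap t.1 t.2).1, hrb]
    · show (r * t.1) • b = b
      rw [mul_smul, (hswap t.1 t.2).2, hra]
    · intro t t' h
      exact Subtype.ext (mul_left_cancel (congrArg Subtype.val h))
  have key : (F (a, b)).card * (Fintype.card Ω - 2) = 2 * (W (a, b)).card := by
    have : P.card * ((F (a, b)).card * (Fintype.card Ω - 2)) = P.card * (2 * (W (a, b)).card) := by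
      calc P.card * ((F (a, b)).card * (Fintype.card Ω - 2))
          = P.card * (F (a, b)).card * (Fintype.card Ω - 2) := by ring
        _ = I.card * 2 * (Fintype.card Ω - 2) := by rw [e1]
        _ = 2 * (I.card * (Fintype.card Ω - 2)) := by ring
        _ = P.card * (2 * (W (a, b)).card) := by rw [e2]; ring
    exact Nat.eq_of_mul_eq_mul_left hPpos this
  have hge : Fintype.card Ω - 2 ≤ 2 * (W (a, b)).card :=
    (Nat.le_mul_of_pos_left _ hF1).trans key.le
  have hWeq : (W (a, b)).card = Nat.card ↥(MulAction.stabilizer G a ⊓ MulAction.stabilizer G b) := by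
    omega
  refine ⟨by omega, fun s hsa hsb => ?_⟩
  by_contra hss
  have hswap : ∀ t ∈ W (a, b), t • a = b ∧ t • b = a := by
    intro t ht
    simp only [W, I, Finset.mem_filter, Finset.mem_univ, true_and] at ht
    exact ⟨ht.2, by rw [← ht.2, smul_smul, ht.1.2.1, one_smul]⟩
  have hsW : s ∉ W (a, b) := fun h => by
    simp only [W, I, Finset.mem_filter, Finset.mem_univ, true_and] at h
    exact hss h.1.2.1
  have hins : ∀ t : ↥(insert s (W (a, b))), t.1 • a = b ∧ t.1 • b = a := fun t => by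
    rcases Finset.mem_insert.1 t.2 with h | h
    · rw [h]; exact ⟨hsa, hsb⟩
    · exact hswap _ h
  have hle : Nat.card ↥(insert s (W (a, b))) ≤
      Nat.card ↥(MulAction.stabilizer G a ⊓ MulAction.stabilizer G b) := by
    refine Nat.card_le_card_of_injective (fun t => (⟨s * t.1, Subgroup.mem_inf.2 ⟨?_, ?_⟩⟩ :
      ↥(MulAction.stabilizer G a ⊓ MulAction.stabilizer G b))) ?_
    · show (s * t.1) • a = a
      rw [mul_smul, (hins t).1, hsb]
    · show (s * t.1) • b = b
      rw [mul_smul, (hins t).2, hsa]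
    · intro t t' h
      exact Subtype.ext (mul_left_cancel (congrArg Subtype.val h))
  rw [Nat.card_eq_fintype_card, Fintype.card_coe, Finset.card_insert_of_notMem hsW] at hle
  omega

/-- A finite group with an involutory fixed-point-free automorphism given by conjugation is
inverted. -/
theorem inverted_of_fpf {z : G} (hz : z * z = 1) {Q : Subgroup G}
    (hQ : ∀ x ∈ Q, z * x * z ∈ Q) (hfpf : ∀ x ∈ Q, z * x * z = x → x = 1) :
    ∀ x ∈ Q, z * x * z = x⁻¹ := by
  have hzz : ∀ y : G, z * (z * y) = y := fun y => by rw [← mul_assoc, hz, one_mul]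
  let f : Q → Q := fun x => ⟨x.1⁻¹ * (z * x.1 * z), mul_mem (inv_mem x.2) (hQ _ x.2)⟩
  have hf : Function.Injective f := by
    intro x y h
    have h' : x.1⁻¹ * (z * x.1 * z) = y.1⁻¹ * (z * y.1 * z) := congrArg Subtype.val h
    have hzi : z⁻¹ = z := inv_eq_of_mul_eq_one_right hz
    have h2 : y.1 * x.1⁻¹ = z * (y.1 * x.1⁻¹) * z := by
      calc y.1 * x.1⁻¹ = y.1 * (x.1⁻¹ * (z * x.1 * z)) * (z * x.1 * z)⁻¹ := by group
        _ = z * y.1 * z * (z * x.1 * z)⁻¹ := by rw [h']; group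
        _ = z * (y.1 * x.1⁻¹) * z⁻¹ := by group
        _ = z * (y.1 * x.1⁻¹) * z := by rw [hzi]
    exact Subtype.ext (mul_inv_eq_one.1 (hfpf _ (mul_mem y.2 (inv_mem x.2)) h2.symm)).symm
  intro y hy
  obtain ⟨x, hx⟩ := (Finite.injective_iff_surjective.1 hf) ⟨y, hy⟩
  have hzi : z⁻¹ = z := inv_eq_of_mul_eq_one_right hz
  have hx' : x.1⁻¹ * (z * x.1 * z) = y := congrArg Subtype.val hx
  rw [← hx']
  calc z * (x.1⁻¹ * (z * x.1 * z)) * z = z * x.1⁻¹ * z * x.1 * (z * z) := by group
    _ = z⁻¹ * x.1⁻¹ * z⁻¹ * x.1 := by rw [hz, mul_one, hzi]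
    _ = (x.1⁻¹ * (z * x.1 * z))⁻¹ := by group

/-- A Zassenhaus group whose point stabiliser has an abelian regular normal subgroup, whose
two-point stabiliser is inverted by a swapping involution and has order `(n - 1) / 2`, is
`PSL(2, n)`. -/
theorem exists_equiv_of_kernel (hZ : Cfsg.IsZassenhausGroup G Ω) {a b : Ω} (hab : a ≠ b)
    {Q : Subgroup G} (hQle : Q ≤ stabilizer G a)
    (hQn : ∀ h ∈ stabilizer G a, ∀ x ∈ Q, h * x * h⁻¹ ∈ Q)
    (hQfix : ∀ x ∈ Q, x ≠ 1 → ∀ c : Ω, x • c = c → c = a)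
    (hQcard : Nat.card Q + 1 = Nat.card Ω) (hQcomm : ∀ x ∈ Q, ∀ y ∈ Q, x * y = y * x)
    (hdeq : 2 * Nat.card ↥(stabilizer G a ⊓ stabilizer G b) = Fintype.card Ω - 2)
    (hm2 : 2 ≤ Nat.card ↥(stabilizer G a ⊓ stabilizer G b))
    {s : G} (hss : s * s = 1) (hsa : s • a = b)
    (hsinv : ∀ h ∈ stabilizer G a ⊓ stabilizer G b, s * h * s⁻¹ = h⁻¹) :
    ∃ (K : Type) (_ : Field K) (_ : Fintype K), Odd (Fintype.card K) ∧ 5 ≤ Fintype.card K ∧
      Fintype.card Ω = Fintype.card K + 1 ∧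
      Nonempty (G ≃* Matrix.ProjectiveSpecialLinearGroup (Fin 2) K) := by
  classical
  haveI := hZ.1
  set D := stabilizer G a ⊓ stabilizer G b with hD
  have hDmem : ∀ {x : G}, x ∈ D → x • a = a ∧ x • b = b := fun h => Subgroup.mem_inf.1 h
  have hQcard' : Nat.card Q + 1 = Fintype.card Ω := by rw [hQcard, Nat.card_eq_fintype_card]
  have hfpf : ∀ h ∈ D, ∀ x ∈ Q, x ≠ 1 → h * x = x * h → h = 1 := fun h hh x hx hx1 hc =>
    CfsgLib.Zassenhaus.fpf_kernel hZ hab (hQle hx) (hQfix x hx hx1) (hDmem hh).1 (hDmem hh).2 hc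
  have hdec : ∀ g : G, g • a = a → ∃ x ∈ Q, ∃ h ∈ D, g = x * h := by
    intro g hg
    have hgb : g • b ≠ a := fun h => hab.symm ((smul_left_cancel_iff g).1 (h.trans hg.symm))
    obtain ⟨⟨x, hx⟩, hxb, -⟩ :=
      CfsgLib.CharactersDeep.Zassenhaus.orbit_bijective hQle hQcard hQfix hab.symm (g • b) hgb
    refine ⟨x, hx, x⁻¹ * g, Subgroup.mem_inf.2 ⟨mul_mem (inv_mem (hQle hx)) hg, ?_⟩,
      (mul_inv_cancel_left x g).symm⟩
    rw [mem_stabilizer_iff, mul_smul, ← hxb, inv_smul_smul]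
  have hstab : stabilizer G a = Q ⊔ D := by
    refine le_antisymm (fun g hg => ?_) (sup_le hQle inf_le_left)
    obtain ⟨x, hx, h, hh, rfl⟩ := hdec g hg
    exact Subgroup.mul_mem_sup hx hh
  have hfixa : ∀ g x, x ∈ Q → x ≠ 1 → g * x * g⁻¹ ∈ Q → g • a = a := by
    intro g x hx hx1 hgx
    refine hQfix _ hgx (fun h => hx1 (conj_eq_one_iff.1 h)) (g • a) ?_
    rw [mul_smul, mul_smul, inv_smul_smul, mem_stabilizer_iff.1 (hQle hx)]
  have hcent : ∀ x ∈ Q, x ≠ 1 → Subgroup.centralizer ({x} : Set G) = Q := by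
    intro x hx hx1
    refine le_antisymm (fun g hg => ?_) fun y hy =>
      Subgroup.mem_centralizer_singleton_iff.2 (hQcomm y hy x hx)
    rw [Subgroup.mem_centralizer_singleton_iff] at hg
    obtain ⟨y, hy, h, hh, rfl⟩ := hdec g (hfixa g x hx hx1 (by rw [hg, mul_inv_cancel_right]; exact hx))
    have hhx : h * x = x * h := by
      apply mul_left_cancel (a := y)
      calc y * (h * x) = y * h * x := by group
        _ = x * (y * h) := hg
        _ = (x * y) * h := by group
        _ = (y * x) * h := by rw [hQcomm x hx y hy]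
        _ = y * (x * h) := by group
    rw [hfpf h hh x hx hx1 hhx, mul_one]
    exact hy
  have hQD : Q ⊓ D = ⊥ := by
    rw [Subgroup.eq_bot_iff_forall]
    intro x hx
    obtain ⟨hxQ, hxD⟩ := Subgroup.mem_inf.1 hx
    by_contra hx1
    exact hab.symm (hQfix x hxQ hx1 b (hDmem hxD).2)
  have hDcomm : ∀ x ∈ D, ∀ y ∈ D, x * y = y * x := by
    intro x hx y hy
    have h1 := hsinv (y⁻¹ * x⁻¹) (mul_mem (inv_mem hy) (inv_mem hx))
    rw [mul_inv_rev, inv_inv, inv_inv] at h1
    calc x * y = s * (y⁻¹ * x⁻¹) * s⁻¹ := h1.symm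
      _ = s * y⁻¹ * s⁻¹ * (s * x⁻¹ * s⁻¹) := by group
      _ = y * x := by rw [hsinv _ (inv_mem hy), hsinv _ (inv_mem hx), inv_inv, inv_inv]
  have hN : Subgroup.normalizer (Q : Set G) = Q ⊔ D := by
    rw [← hstab]
    refine le_antisymm (fun g hg => ?_) fun g hg => Subgroup.mem_normalizer_iff.2 fun x => ?_
    · haveI : Nontrivial Q := Finite.one_lt_card_iff_nontrivial.1 (by omega)
      obtain ⟨⟨x, hx⟩, hne⟩ := exists_ne (1 : Q)
      exact hfixa g x hx (fun h => hne (Subtype.ext h)) ((Subgroup.mem_normalizer_iff.1 hg x).1 hx)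
    · refine ⟨hQn g hg x, fun h => ?_⟩
      have := hQn g⁻¹ (inv_mem hg) _ h
      rwa [show g⁻¹ * (g * x * g⁻¹) * g⁻¹⁻¹ = x by group] at this
  have hstabcard : Nat.card (stabilizer G a) = Nat.card Q * Nat.card D :=
    CfsgLib.CharactersDeep.Zassenhaus.card_stabilizer hQle hQcard hQfix hab.symm
  haveI := hZ.2.1
  haveI : IsPretransitive G Ω := isPretransitive_of_is_two_pretransitive
  have hG := (stabilizer G a).card_mul_index
  rw [index_stabilizer_of_transitive, hstabcard, Nat.card_eq_fintype_card (α := Ω), ← hQcard'] at hG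
  have hDQ : 2 * Nat.card D + 1 = Nat.card Q := by omega
  obtain ⟨K, fK, fFin, hK, hiso⟩ := exists_equiv_of_data Q D
    (by rw [← hG, show Nat.card Q - 1 = 2 * Nat.card D by omega]; ring)
    hcent hDcomm hDQ hQD hN hm2 s hss (fun h => hab ((hDmem h).1.symm.trans hsa)) hsinv
  refine ⟨K, fK, fFin, ⟨Nat.card D, by omega⟩, by omega, by omega, hiso⟩

/-- Zassenhaus's theorem for two-point stabilisers of even order `d` with `2 d ≤ n - 1`. -/
theorem exists_equiv_of_zassenhaus (hZ : Cfsg.IsZassenhausGroup G Ω) {a b : Ω} (hab : a ≠ b)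
    (heven : Even (Nat.card ↥(stabilizer G a ⊓ stabilizer G b)))
    (hd : 2 * Nat.card ↥(stabilizer G a ⊓ stabilizer G b) ≤ Fintype.card Ω - 2) :
    ∃ (K : Type) (_ : Field K) (_ : Fintype K), Odd (Fintype.card K) ∧ 5 ≤ Fintype.card K ∧
      Fintype.card Ω = Fintype.card K + 1 ∧
      Nonempty (G ≃* Matrix.ProjectiveSpecialLinearGroup (Fin 2) K) := by
  classical
  haveI := hZ.1
  obtain ⟨hdeq, hswap⟩ := swap_sq_eq_one hZ hab heven hd
  obtain ⟨Q, hQle, hQn, hQfix, -, -, hQcard, -⟩ := CfsgLib.Zassenhaus.exists_kernel hZ a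
  set D := stabilizer G a ⊓ stabilizer G b with hD
  have hDmem : ∀ {x : G}, x ∈ D → x • a = a ∧ x • b = b := fun h => Subgroup.mem_inf.1 h
  have hm2 : 2 ≤ Nat.card D := Nat.le_of_dvd Nat.card_pos heven.two_dvd
  -- the central involution inverts the kernel
  haveI : Fact (Nat.Prime 2) := ⟨Nat.prime_two⟩
  obtain ⟨⟨z, hzD⟩, hz2⟩ := exists_prime_orderOf_dvd_card' (G := D) 2 heven.two_dvd
  rw [Subgroup.orderOf_mk] at hz2
  have hzz : z * z = 1 := by rw [← pow_two, ← hz2, pow_orderOf_eq_one]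
  have hzi : z⁻¹ = z := inv_eq_of_mul_eq_one_right hzz
  have hz1 : z ≠ 1 := fun e => by rw [e, orderOf_one] at hz2; omega
  have hinv : ∀ x ∈ Q, z * x * z = x⁻¹ := by
    refine inverted_of_fpf hzz (fun x hx => ?_) fun x hx h => ?_
    · have := hQn z (hDmem hzD).1 x hx
      rwa [hzi] at this
    · by_contra hx1
      refine hz1 (CfsgLib.Zassenhaus.fpf_kernel hZ hab (hQle hx) (hQfix x hx hx1) (hDmem hzD).1
        (hDmem hzD).2 ?_)
      calc z * x = z * x * (z * z) := by rw [hzz, mul_one]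
        _ = z * x * z * z := by group
        _ = x * z := by rw [h]
  have hQcomm : ∀ x ∈ Q, ∀ y ∈ Q, x * y = y * x := by
    intro x hx y hy
    have h1 := hinv (y⁻¹ * x⁻¹) (mul_mem (inv_mem hy) (inv_mem hx))
    rw [mul_inv_rev, inv_inv, inv_inv] at h1
    calc x * y = z * (y⁻¹ * x⁻¹) * z := h1.symm
      _ = z * y⁻¹ * (z * z) * x⁻¹ * z := by rw [hzz]; group
      _ = z * y⁻¹ * z * (z * x⁻¹ * z) := by group
      _ = y * x := by rw [hinv _ (inv_mem hy), hinv _ (inv_mem hx), inv_inv, inv_inv]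
  obtain ⟨s, hs2, hsa, hsb⟩ := CfsgLib.Perm.Zassenhaus.exists_invol_swap hZ hab
  have hss := hswap s hsa hsb
  refine exists_equiv_of_kernel hZ hab hQle hQn hQfix hQcard hQcomm hdeq hm2 hss hsa fun h hh => ?_
  have h1 := hswap (s * h) (by rw [mul_smul, (hDmem hh).1, hsa])
    (by rw [mul_smul, (hDmem hh).2, hsb])
  rw [inv_eq_of_mul_eq_one_right hss]
  exact eq_inv_of_mul_eq_one_left (by rw [← h1]; group)

end CfsgLib.Classification.PSLTwoGeneral
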