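import Cfsg.Agent.Classification.PSLTwoGeneral.ZassenhausAbelian
import Cfsg.Agent.NilpotentCover.Basic

/-!
# The kernel of a simple Zassenhaus group has prime power order
-/

set_option autoImplicit false
set_option linter.style.haveILetI false

namespace CfsgLib.Classification.PSLTwoGeneral

open MulAction

variable {G Ω : Type*} [Group G] [Finite G] [MulAction G Ω] [Fintype Ω]

/-- In a Zassenhaus group the degree minus one is a prime power. -/
theorem isPrimePow_degree (hZ : Cfsg.IsZassenhausGroup G Ω) : IsPrimePow (Fintype.card Ω - 1) := by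
  classical
  haveI := hZ.1
  obtain ⟨g, hg, a, b, hab, hga, hgb⟩ := hZ.2.2.2.1
  obtain ⟨Q, hQle, hQn, hQfix, -, -, hQcard, -⟩ := CfsgLib.Zassenhaus.exists_kernel hZ a
  set D := stabilizer G a ⊓ stabilizer G b with hD
  have hDmem : ∀ {x : G}, x ∈ D → x • a = a ∧ x • b = b := fun h => Subgroup.mem_inf.1 h
  have hQc : Nat.card Q + 1 = Fintype.card Ω := by rw [hQcard, Nat.card_eq_fintype_card]
  have hΩ := CfsgLib.Perm.Zassenhaus.card_ge_three hZ
  have hne : Fintype.card Ω - 1 ≠ 1 := by omega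
  obtain ⟨p, hp, hpd⟩ := Nat.exists_prime_and_dvd hne
  by_cases hall : ∀ q, q.Prime → q ∣ Fintype.card Ω - 1 → q = p
  · rw [isPrimePow_iff_unique_prime_dvd]
    exact ⟨p, ⟨hp, hpd⟩, fun q hq => hall q hq.1 hq.2⟩
  push Not at hall
  obtain ⟨q, hq, hqd, hqp⟩ := hall
  rw [show Fintype.card Ω - 1 = Nat.card Q by omega] at hpd hqd ⊢
  -- a two-group kernel is impossible here
  have hlarge : Fintype.card Ω - 2 ≤ 2 * Nat.card D := by
    rcases Nat.even_or_odd (Nat.card D) with heven | hodd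
    · exact Cfsg.Agent.S0741.result hZ hab heven
    rcases Cfsg.Agent.S0885.result hZ hab (Fintype.card Ω - 1) _ (by omega) rfl hodd Q hQle hQc hQfix
      with h | ⟨h2, -, -⟩
    · omega
    · exfalso
      haveI : Fact (Nat.Prime 2) := ⟨Nat.prime_two⟩
      obtain ⟨k, hk⟩ := h2.exists_card_eq
      rw [hk] at hpd hqd
      exact hqp (((Nat.prime_dvd_prime_iff_eq hq Nat.prime_two).1 (hq.dvd_of_dvd_pow hqd)).trans
        ((Nat.prime_dvd_prime_iff_eq hp Nat.prime_two).1 (hp.dvd_of_dvd_pow hpd)).symm)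
  haveI := CfsgLib.Zassenhaus.isNilpotent_kernel hZ hQle hQn hQfix
  haveI := Fact.mk hp
  haveI := Fact.mk hq
  obtain ⟨x, hx⟩ := exists_prime_orderOf_dvd_card' p hpd
  obtain ⟨y, hy⟩ := exists_prime_orderOf_dvd_card' q hqd
  have hcop : (orderOf x).Coprime (orderOf y) := by
    rw [hx, hy]; exact (Nat.coprime_primes hp hq).2 (Ne.symm hqp)
  have hc := CfsgLib.NilpotentCover.commute_of_coprime x y hcop
  have hxy : orderOf (x * y) = p * q := by rw [hc.orderOf_mul_eq_mul_orderOf_of_coprime hcop, hx, hy]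
  let w : Fin 3 → Q := ![x, y, x * y]
  have hw : ∀ i, w i ≠ 1 := by
    intro i h
    have h' := congrArg orderOf h
    rw [orderOf_one] at h'
    fin_cases i
    · exact hp.ne_one (hx.symm.trans h')
    · exact hq.ne_one (hy.symm.trans h')
    · exact hp.ne_one (Nat.eq_one_of_mul_eq_one_right (hxy.symm.trans h'))
  have hwo : ∀ i j, orderOf (w i) = orderOf (w j) → i = j := by
    intro i j h
    have h1 := hp.one_lt
    have h2 := hq.one_lt
    fin_cases i <;> fin_cases j <;> simp [w, hx, hy, hxy] at h ⊢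
    all_goals first | omega | nlinarith
  let f : Option (Fin 3 × D) → Q := fun o => o.elim 1 fun r =>
    ⟨(r.2 : G) * (w r.1 : G) * (r.2 : G)⁻¹, hQn r.2 (hDmem r.2.2).1 _ (w r.1).2⟩
  have hford : ∀ i (d : D), orderOf ((d : G) * (w i : G) * (d : G)⁻¹) = orderOf (w i) := fun i d => by
    rw [← MulAut.conj_apply, MulEquiv.orderOf_eq, Subgroup.orderOf_coe]
  have hf1 : ∀ i (d : D), (1 : Q) ≠ f (some (i, d)) := fun i d h =>
    hw i (Subtype.ext (conj_eq_one_iff.1 (congrArg Subtype.val h).symm))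
  have hf : Function.Injective f := by
    rintro (_ | ⟨i, d⟩) (_ | ⟨j, e⟩) h
    · rfl
    · exact absurd h (hf1 j e)
    · exact absurd h.symm (hf1 i d)
    · have h' : (d : G) * (w i : G) * (d : G)⁻¹ = (e : G) * (w j : G) * (e : G)⁻¹ :=
        congrArg Subtype.val h
      obtain rfl : i = j := hwo i j (by rw [← hford i d, h', hford])
      have h1 : ((e : G)⁻¹ * d) * (w i : G) = (w i : G) * ((e : G)⁻¹ * d) := by
        calc ((e : G)⁻¹ * d) * (w i : G) = (e : G)⁻¹ * ((d : G) * (w i : G) * (d : G)⁻¹) * d := by group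
          _ = (e : G)⁻¹ * ((e : G) * (w i : G) * (e : G)⁻¹) * d := by rw [h']
          _ = (w i : G) * ((e : G)⁻¹ * d) := by group
      have hm : (e : G)⁻¹ * d ∈ D := mul_mem (inv_mem e.2) d.2
      have h2 := CfsgLib.Zassenhaus.fpf_kernel hZ hab (hQle (w i).2)
        (hQfix _ (w i).2 fun e => hw i (Subtype.ext e)) (hDmem hm).1 (hDmem hm).2 h1
      rw [show d = e from Subtype.ext (inv_mul_eq_one.1 h2).symm]
  have hle := Nat.card_le_card_of_injective f hf
  rw [Finite.card_option, Nat.card_prod, Nat.card_fin] at hle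
  have hd0 : 0 < Nat.card D := Nat.card_pos
  omega

end CfsgLib.Classification.PSLTwoGeneral
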