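import Cfsg.Agent.Linear.Basic
import Mathlib.LinearAlgebra.Matrix.ProjectiveSpecialLinearGroup
import Mathlib.Topology.Compactification.OnePoint.ProjectiveLine
import Mathlib.FieldTheory.Finite.Basic

/-!
# Permutation groups of the projective line with the Borel subgroup of `PSL(2, F)`

`F` is a finite field of odd order `2 m + 1` with `m ≥ 1`.  A group of permutations of
`OnePoint F` in which the stabiliser of `∞` consists of the maps `x ↦ a x + b` with `a ^ m = 1`,
containing an involution exchanging `0` and `∞` and inverting the multiplications, is `PSL(2, F)`.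
-/

set_option autoImplicit false
set_option linter.unusedSectionVars false
set_option linter.style.haveILetI false

namespace CfsgLib.Classification.PSLTwoGeneral

open scoped OnePoint MatrixGroups
open Matrix

variable {G : Type*} [Group G] {F : Type*} [Field F]

/-- A permutation model of a group on the projective line. -/
structure Model (G : Type*) [Group G] (F : Type*) [Field F] (m : ℕ) where
  /-- the action -/
  hom : G →* Equiv.Perm (OnePoint F)
  hom_injective : Function.Injective hom
  affine : ∀ g, hom g ∞ = ∞ → ∃ a b : F, a ^ m = 1 ∧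
    ∀ x : F, hom g x = ((a * x + b : F) : OnePoint F)
  exists_affine : ∀ a b : F, a ^ m = 1 → ∃ g, hom g ∞ = ∞ ∧
    ∀ x : F, hom g x = ((a * x + b : F) : OnePoint F)
  exists_swap : ∃ w, w * w = 1 ∧ hom w ∞ = ((0 : F) : OnePoint F) ∧
    ∀ a y z : F, a ^ m = 1 → hom w y = z → hom w ((a * y : F) : OnePoint F) = ((a⁻¹ * z : F) : OnePoint F)

variable [DecidableEq F]

/-- Möbius transformations from `SL(2, F)`. -/
noncomputable def mob (F : Type*) [Field F] [DecidableEq F] : SL(2, F) →* Equiv.Perm (OnePoint F) :=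
  (MulAction.toPermHom (GL (Fin 2) F) (OnePoint F)).comp Matrix.SpecialLinearGroup.toGL

theorem mob_infty (A : SL(2, F)) :
    mob F A ∞ = if A.1 1 0 = 0 then ∞ else ((A.1 0 0 / A.1 1 0 : F) : OnePoint F) :=
  OnePoint.smul_infty_eq_ite (Matrix.SpecialLinearGroup.toGL A)

theorem mob_coe (A : SL(2, F)) (x : F) :
    mob F A x = if A.1 1 0 * x + A.1 1 1 = 0 then ∞
      else (((A.1 0 0 * x + A.1 0 1) / (A.1 1 0 * x + A.1 1 1) : F) : OnePoint F) :=
  OnePoint.smul_some_eq_ite (g := Matrix.SpecialLinearGroup.toGL A)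

theorem center_le_ker_mob : Subgroup.center SL(2, F) ≤ (mob F).ker := by
  intro A hA
  obtain ⟨r, hr, hA'⟩ := Matrix.SpecialLinearGroup.mem_center_iff.1 hA
  have hr0 : r ≠ 0 := by rintro rfl; simp at hr
  rw [MonoidHom.mem_ker]
  refine Equiv.ext fun o => ?_
  cases o with
  | infty => simp [mob_infty, ← hA']
  | coe x => simp [mob_coe, ← hA', hr0]

/-- An element of `SL(2, F)` given by its entries. -/
def slMat (a b c d : F) (h : a * d - b * c = 1) : SL(2, F) :=
  ⟨!![a, b; c, d], by rw [Matrix.det_fin_two_of]; exact h⟩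

variable {m : ℕ}

theorem Model.translate_spec (M : Model G F m) (t : F) : ∃ g, M.hom g ∞ = ∞ ∧
    ∀ x : F, M.hom g x = ((x + t : F) : OnePoint F) := by
  obtain ⟨g, hg, hx⟩ := M.exists_affine 1 t (one_pow _)
  exact ⟨g, hg, fun x => by rw [hx, one_mul]⟩

variable [Fintype F] (hm : Fintype.card F = 2 * m + 1) (hm0 : 1 ≤ m)
include hm hm0

theorem two_ne : (2 : F) ≠ 0 := by
  refine Ring.two_ne_zero fun h => ?_
  have := FiniteField.even_card_of_char_two h
  omega

theorem pow_dichotomy {x : F} (hx : x ≠ 0) : x ^ m = 1 ∨ x ^ m = -1 := by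
  have h := FiniteField.pow_card_sub_one_eq_one x hx
  rw [hm, show 2 * m + 1 - 1 = m * 2 by omega, pow_mul] at h
  exact sq_eq_one_iff.1 h

theorem neg_one_ne : (-1 : F) ≠ 1 := by
  intro h
  exact two_ne hm hm0 (by linear_combination -h)

theorem exists_sqrt {a : F} (ha : a ^ m = 1) : ∃ r : F, r ≠ 0 ∧ a = r * r := by
  have ha0 : a ≠ 0 := fun e => by rw [e, zero_pow (by omega)] at ha; exact zero_ne_one ha
  have hchar : ringChar F ≠ 2 := fun h => by
    have := FiniteField.even_card_of_char_two h
    omega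
  obtain ⟨r, hr⟩ := (FiniteField.isSquare_iff hchar ha0).2
    (by rw [hm, show (2 * m + 1) / 2 = m by omega]; exact ha)
  exact ⟨r, fun e => ha0 (by rw [hr, e, mul_zero]), hr⟩

/-- The squares together with `0` are not closed under addition of `1`. -/
theorem exists_square_add_not (c : F) (hc : c ^ m = 1) :
    ∃ s : F, s ^ m = 1 ∧ s + c ≠ 0 ∧ (s + c) ^ m ≠ 1 := by
  classical
  by_contra hcon
  push Not at hcon
  have hne : ∀ {x : F}, x ^ m = 1 → x ≠ 0 := fun h e => by
    rw [e, zero_pow (by omega)] at h; exact zero_ne_one h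
  have hadd : ∀ s t : F, s ^ m = 1 → t ^ m = 1 → s + t = 0 ∨ (s + t) ^ m = 1 := by
    intro s t hs ht
    by_cases h0 : s + t = 0
    · exact Or.inl h0
    right
    have hu : (c * s / t) ^ m = 1 := by rw [div_pow, mul_pow, hc, hs, ht]; simp
    have h1 : c * s / t + c = c * (s + t) / t := by
      have := hne ht
      field_simp
    have h2 := hcon _ hu (by
      rw [h1]
      exact div_ne_zero (mul_ne_zero (hne hc) h0) (hne ht))
    rw [h1, div_pow, mul_pow, hc, ht, one_mul, div_one] at h2
    exact h2
  let S : Set F := {x | x = 0 ∨ x ^ m = 1}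
  have hneg : ∀ x ∈ S, ∀ y ∈ S, x + y ∈ S := by
    rintro x (rfl | hx) y (rfl | hy)
    · exact Or.inl (add_zero _)
    · exact Or.inr (by rwa [zero_add])
    · exact Or.inr (by rwa [add_zero])
    · exact hadd x y hx hy
  have hnsmul : ∀ (n : ℕ), ∀ x ∈ S, n • x ∈ S := by
    intro n x hx
    induction n with
    | zero => exact Or.inl (zero_nsmul x)
    | succ n ih => rw [succ_nsmul]; exact hneg _ ih _ hx
  let H : AddSubgroup F :=
    { carrier := S
      zero_mem' := Or.inl rfl
      add_mem' := fun {x y} hx hy => hneg x hx y hy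
      neg_mem' := fun {x} hx => by
        have h := hnsmul (Fintype.card F - 1) x hx
        have h2 : (Fintype.card F - 1) • x = -x := by
          rw [eq_neg_iff_add_eq_zero, ← succ_nsmul, hm,
            show 2 * m + 1 - 1 + 1 = 2 * m + 1 by omega, ← hm, card_nsmul_eq_zero]
        rwa [h2] at h }
  have hHcard : Nat.card H = m + 1 := by
    have h1 : (Finset.univ.filter fun x : F => x ^ m = 1).card = m := by
      have hle : (Finset.univ.filter fun x : F => x ^ m = 1).card ≤ m := by
        have h := Finset.card_le_card (s := Finset.univ.filter fun x : F => x ^ m = 1)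
          (t := (Polynomial.nthRoots m (1 : F)).toFinset)
          (fun a ha => Multiset.mem_toFinset.2
            ((Polynomial.mem_nthRoots (by omega)).2 (Finset.mem_filter.1 ha).2))
        exact h.trans ((Multiset.toFinset_card_le _).trans (Polynomial.card_nthRoots _ _))
      have hle2 : (Finset.univ.filter fun x : F => x ^ m = -1).card ≤ m := by
        have h := Finset.card_le_card (s := Finset.univ.filter fun x : F => x ^ m = -1)
          (t := (Polynomial.nthRoots m (-1 : F)).toFinset)
          (fun a ha => Multiset.mem_toFinset.2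
            ((Polynomial.mem_nthRoots (by omega)).2 (Finset.mem_filter.1 ha).2))
        exact h.trans ((Multiset.toFinset_card_le _).trans (Polynomial.card_nthRoots _ _))
      have h3 : (Finset.univ.erase (0 : F)) ⊆ (Finset.univ.filter fun x : F => x ^ m = 1) ∪
          (Finset.univ.filter fun x : F => x ^ m = -1) := fun x hx => by
        have hx0 := Finset.ne_of_mem_erase hx
        rcases pow_dichotomy hm hm0 hx0 with h | h <;> simp [h]
      have h4 := (Finset.card_le_card h3).trans (Finset.card_union_le _ _)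
      rw [Finset.card_erase_of_mem (Finset.mem_univ _), Finset.card_univ, hm] at h4
      omega
    rw [Nat.card_eq_fintype_card]
    have h5 : Fintype.card H = (insert (0 : F) (Finset.univ.filter fun x : F => x ^ m = 1)).card :=
      Fintype.card_of_subtype _ fun x => by simp [H, S]
    rw [h5, Finset.card_insert_of_notMem (by simp [zero_pow (show m ≠ 0 by omega)]), h1]
  have hdvd := AddSubgroup.card_addSubgroup_dvd_card H
  rw [hHcard, Nat.card_eq_fintype_card, hm] at hdvd
  obtain ⟨k, hk⟩ := hdvd
  rcases k with _ | _ | k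
  · omega
  · omega
  · nlinarith

namespace Model

variable (M : Model G F m)

/-- An involution fixes no point if `m` is odd. -/
theorem eq_one_of_fixed (hodd : Odd m) {g : G} (hg : g * g = 1) (o : OnePoint F)
    (ho : M.hom g o = o) : g = 1 := by
  obtain ⟨w, -, hwi, -⟩ := M.exists_swap
  obtain ⟨h, hh⟩ : ∃ h, M.hom h ∞ = o := by
    cases o with
    | infty => exact ⟨1, by rw [map_one]; rfl⟩
    | coe t =>
      obtain ⟨u, -, hu⟩ := M.translate_spec t
      exact ⟨u * w, by rw [map_mul, Equiv.Perm.mul_apply, hwi, hu, zero_add]⟩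
  have hk : M.hom (h⁻¹ * g * h) ∞ = ∞ := by
    rw [map_mul, map_mul, Equiv.Perm.mul_apply, Equiv.Perm.mul_apply, hh, ho, map_inv,
      Equiv.Perm.inv_eq_iff_eq, hh]
  have hk2 : (h⁻¹ * g * h) * (h⁻¹ * g * h) = 1 := by
    rw [show (h⁻¹ * g * h) * (h⁻¹ * g * h) = h⁻¹ * (g * g) * h by group, hg]; group
  obtain ⟨a, b, ha, hab⟩ := M.affine _ hk
  have h2 : ∀ x : F, a * (a * x + b) + b = x := fun x => by
    have := congrArg (fun v => M.hom v (x : OnePoint F)) hk2
    rw [map_mul, Equiv.Perm.mul_apply, map_one, Equiv.Perm.one_apply, hab, hab] at this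
    exact OnePoint.coe_injective this
  have h0 := h2 0
  have h1 := h2 1
  have haa : a ^ 2 = 1 := by linear_combination h1 - h0
  have ha1 : a = 1 := by
    obtain ⟨k, rfl⟩ := hodd
    rw [pow_succ, pow_mul, haa, one_pow, one_mul] at ha
    exact ha
  have hb : b = 0 := by
    rw [ha1] at h0
    have h' : (2 : F) * b = 0 := by linear_combination h0
    exact (mul_eq_zero.1 h').resolve_left (two_ne hm hm0)
  have hkone : h⁻¹ * g * h = 1 := M.hom_injective (by
    rw [map_one]
    refine Equiv.ext fun o' => ?_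
    cases o' with
    | infty => simpa using hk
    | coe x => rw [hab, ha1, hb, one_mul, add_zero]; rfl)
  have : g = h * (h⁻¹ * g * h) * h⁻¹ := by group
  rw [this, hkone]; group

/-- The swap is `x ↦ c / x` with `-c` a nonzero square. -/
theorem exists_inversion : ∃ (w : G) (c : F), (-c) ^ m = 1 ∧
    M.hom w ∞ = ((0 : F) : OnePoint F) ∧ M.hom w ((0 : F) : OnePoint F) = ∞ ∧
    ∀ x : F, x ≠ 0 → M.hom w x = ((c / x : F) : OnePoint F) := by
  classical
  obtain ⟨w, hww, hwi, hwh⟩ := M.exists_swap
  have hinv : ∀ o, M.hom w (M.hom w o) = o := fun o => by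
    rw [← Equiv.Perm.mul_apply, ← map_mul, hww, map_one]; rfl
  have hwz : M.hom w ((0 : F) : OnePoint F) = ∞ := by rw [← hwi, hinv]
  have hfin : ∀ x : F, x ≠ 0 → ∃ y : F, y ≠ 0 ∧ M.hom w x = (y : OnePoint F) := by
    intro x hx
    cases hwx : M.hom w x with
    | infty => exact absurd (OnePoint.coe_injective ((M.hom w).injective (hwx.trans hwz.symm))) hx
    | coe y =>
      refine ⟨y, fun e => ?_, rfl⟩
      rw [e, ← hwi] at hwx
      exact OnePoint.coe_ne_infty x ((M.hom w).injective hwx)
  obtain ⟨c, hc0, hc⟩ := hfin 1 one_ne_zero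
  obtain ⟨g₀, hg₀⟩ : ∃ g₀ : F, g₀ ≠ 0 ∧ g₀ ^ m ≠ 1 := by
    by_contra hall
    push Not at hall
    obtain ⟨s, hs, hs0, hs'⟩ := exists_square_add_not hm hm0 1 (one_pow _)
    exact hs' (hall _ hs0)
  obtain ⟨e₀, he₀0, he₀⟩ := hfin g₀ hg₀.1
  set e := e₀ * g₀ with he
  have he0 : e ≠ 0 := mul_ne_zero he₀0 hg₀.1
  have hg₀m : g₀ ^ m = -1 := (pow_dichotomy hm hm0 hg₀.1).resolve_left hg₀.2
  have hsq : ∀ x : F, x ^ m = 1 → M.hom w x = ((c / x : F) : OnePoint F) := by
    intro x hx
    have := hwh x 1 c hx hc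
    rw [mul_one] at this
    rw [this, div_eq_inv_mul]
  have hnsq : ∀ x : F, x ^ m = -1 → M.hom w x = ((e / x : F) : OnePoint F) := by
    intro x hx
    have hx0 : x ≠ 0 := fun e => by
      rw [e, zero_pow (by omega)] at hx
      exact neg_ne_zero.2 one_ne_zero hx.symm
    have := hwh (x / g₀) g₀ e₀ (by rw [div_pow, hx, hg₀m, neg_div_neg_eq, div_one]) he₀
    rw [div_mul_cancel₀ _ hg₀.1] at this
    rw [this, he, inv_div]
    congr 1
    ring
  -- the relation
  obtain ⟨u, hui, hux⟩ := M.translate_spec 1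
  obtain ⟨tt, htti, httx⟩ := M.translate_spec c
  have httc : M.hom tt⁻¹ (c : OnePoint F) = ((0 : F) : OnePoint F) := by
    rw [map_inv, Equiv.Perm.inv_eq_iff_eq, httx, zero_add]
  obtain ⟨h, hdef⟩ : ∃ h, h = w⁻¹ * tt⁻¹ * w * u * w := ⟨_, rfl⟩
  have hhi : M.hom h ∞ = ∞ := by
    rw [hdef, map_mul, map_mul, map_mul, map_mul, Equiv.Perm.mul_apply, Equiv.Perm.mul_apply,
      Equiv.Perm.mul_apply, Equiv.Perm.mul_apply, hwi, hux, zero_add, hc, httc, map_inv,
      Equiv.Perm.inv_eq_iff_eq, hwi]
  obtain ⟨a, b, ha, hab⟩ := M.affine _ hhi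
  have hprod : w * u * w = tt * w * h := by rw [hdef]; group
  have hid : ∀ x : F, M.hom w (M.hom u (M.hom w x)) =
      M.hom tt (M.hom w ((a * x + b : F) : OnePoint F)) := by
    intro x
    rw [← hab, ← Equiv.Perm.mul_apply, ← Equiv.Perm.mul_apply, ← Equiv.Perm.mul_apply,
      ← Equiv.Perm.mul_apply, ← map_mul, ← map_mul, ← map_mul, ← map_mul, hprod]
  have ha0 : a ≠ 0 := fun e => by rw [e, zero_pow (by omega)] at ha; exact zero_ne_one ha
  -- the value at `b`
  have hb : b ≠ 0 ∧ M.hom w (b : OnePoint F) = ((-c : F) : OnePoint F) := by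
    have h0 := hid 0
    rw [hwz, hui, hwi, mul_zero, zero_add] at h0
    cases hwb : M.hom w (b : OnePoint F) with
    | infty => rw [hwb, htti] at h0; exact absurd h0 (OnePoint.coe_ne_infty _)
    | coe y =>
      rw [hwb, httx] at h0
      refine ⟨fun e => ?_, ?_⟩
      · rw [e, hwz] at hwb; exact OnePoint.infty_ne_coe _ hwb
      · rw [show y = -c by linear_combination -(OnePoint.coe_injective h0)]
  have hzero : ∀ x : F, M.hom w x = ((-1 : F) : OnePoint F) → a * x + b = 0 := by
    intro x hx
    have h0 := hid x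
    rw [hx, hux, neg_add_cancel, hwz, eq_comm, ← htti] at h0
    have h1 := (M.hom tt).injective h0
    rw [← hwz] at h1
    exact OnePoint.coe_injective ((M.hom w).injective h1)
  -- `e = c`
  have hec : e = c := by
    rcases pow_dichotomy hm hm0 hc0 with hcs | hcs
    swap
    · have h1 := hinv ((1 : F) : OnePoint F)
      rw [hc, hnsq c hcs] at h1
      have := OnePoint.coe_injective h1
      rwa [div_eq_one_iff_eq hc0] at this
    rcases Nat.even_or_odd m with heven | hodd
    swap
    · -- `w` would fix a point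
      exfalso
      obtain ⟨r, hr0, hr⟩ := exists_sqrt hm hm0 hcs
      obtain ⟨x, hx, hxx⟩ : ∃ x : F, x ^ m = 1 ∧ c = x * x := by
        rcases pow_dichotomy hm hm0 hr0 with h | h
        · exact ⟨r, h, hr⟩
        · exact ⟨-r, by rw [neg_pow, hodd.neg_one_pow, h]; ring, by rw [hr]; ring⟩
      have hx0 : x ≠ 0 := fun e => by rw [e, zero_pow (by omega)] at hx; exact zero_ne_one hx
      have hfix : M.hom w x = x := by
        rw [hsq x hx, hxx, mul_div_assoc, div_self hx0, mul_one]
      have hw1 := M.eq_one_of_fixed hm hm0 hodd hww _ hfix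
      rw [hw1, map_one] at hwi
      exact OnePoint.infty_ne_coe _ hwi
    -- `-1` is a square
    have hneg1 : (-1 : F) ^ m = 1 := heven.neg_one_pow
    by_contra hne
    have hes : e ^ m = 1 := by
      rcases pow_dichotomy hm hm0 he0 with h | h
      · exact h
      · exfalso
        have h1 := hinv (g₀ : OnePoint F)
        have h2 : (e / g₀) ^ m = 1 := by rw [div_pow, h, hg₀m, neg_div_neg_eq, div_one]
        rw [hnsq g₀ hg₀m, hsq _ h2] at h1
        have h3 := OnePoint.coe_injective h1
        field_simp at h3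
        first
          | exact hne h3.symm
          | exact hne (mul_right_cancel₀ hg₀.1 (by linear_combination -h3))
    have hcneg : (-c) ^ m = 1 := by rw [neg_pow, hneg1, hcs, one_mul]
    have hb1 : b = -1 := by
      have h1 := hinv (b : OnePoint F)
      rw [hb.2, hsq _ hcneg] at h1
      have h3 := OnePoint.coe_injective h1
      rw [div_neg, div_self hc0] at h3
      exact h3.symm
    have ha1 : a = -1 / c := by
      have h1 := hzero (-c) (by
        rw [hsq _ hcneg, div_neg, div_self hc0])
      field_simp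
      linear_combination -h1 + hb1
    obtain ⟨s, hs, hsc, hsc'⟩ := exists_square_add_not hm hm0 c hcs
    have hscm : (s + c) ^ m = -1 := (pow_dichotomy hm hm0 hsc).resolve_left hsc'
    have hs0 : s ≠ 0 := fun e => by rw [e, zero_pow (by omega)] at hs; exact zero_ne_one hs
    have h1 : (c / s + 1) ^ m = -1 := by
      rw [show c / s + 1 = (s + c) / s by field_simp; ring, div_pow, hs, hscm, div_one]
    have h2 : (a * s + b) ^ m = -1 := by
      rw [show a * s + b = (-1) * (s + c) / c by rw [ha1, hb1]; field_simp; ring,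
        div_pow, mul_pow, hneg1, hcs, hscm, one_mul, div_one]
    have h3 := hid s
    rw [hsq s hs, hux, hnsq _ h1, hnsq _ h2, httx] at h3
    have h4 := OnePoint.coe_injective h3
    rw [show c / s + 1 = (s + c) / s by field_simp; ring,
      show a * s + b = (-1) * (s + c) / c by rw [ha1, hb1]; field_simp; ring] at h4
    field_simp at h4
    have h5 : (e - c) * (s + c) = 0 := by linear_combination h4
    rcases mul_eq_zero.1 h5 with h | h
    · exact hne (sub_eq_zero.1 h)
    · exact hsc h
  have hw : ∀ x : F, x ≠ 0 → M.hom w x = ((c / x : F) : OnePoint F) := fun x hx => by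
    rcases pow_dichotomy hm hm0 hx with h | h
    · exact hsq x h
    · rw [hnsq x h, hec]
  have hb1 : b = -1 := by
    have h1 := hinv (b : OnePoint F)
    rw [hb.2, hw _ (neg_ne_zero.2 hc0)] at h1
    have h3 := OnePoint.coe_injective h1
    rw [div_neg, div_self hc0] at h3
    exact h3.symm
  refine ⟨w, c, ?_, hwi, hwz, hw⟩
  have h1 := hzero (-c) (by rw [hw _ (neg_ne_zero.2 hc0), div_neg, div_self hc0])
  have h2 : (-c) * a = 1 := by linear_combination h1 - hb1
  have h3 : ((-c) * a) ^ m = 1 := by rw [h2, one_pow]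
  rwa [mul_pow, ha, mul_one] at h3

theorem range_le : M.hom.range ≤ (mob F).range := by
  have hfix : ∀ v : G, M.hom v ∞ = ∞ → M.hom v ∈ (mob F).range := by
    intro v hv
    obtain ⟨a, b, ha, hab⟩ := M.affine v hv
    obtain ⟨r, hr, rfl⟩ := exists_sqrt hm hm0 ha
    refine ⟨slMat r (b / r) 0 r⁻¹ (by rw [mul_inv_cancel₀ hr, mul_zero, sub_zero]),
      Equiv.ext fun o => ?_⟩
    cases o with
    | infty => rw [mob_infty, hv]; simp [slMat]
    | coe x =>
      rw [mob_coe, hab]
      simp [slMat, hr]
      field_simp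
  obtain ⟨w, c, hneg, hwi, hwz, hwx⟩ := M.exists_inversion hm hm0
  obtain ⟨s, hs, hcs⟩ := exists_sqrt hm hm0 hneg
  have hwmem : M.hom w ∈ (mob F).range := by
    refine ⟨slMat 0 (c / s) s⁻¹ 0 (by
      field_simp
      linear_combination hcs), Equiv.ext fun o => ?_⟩
    cases o with
    | infty => rw [mob_infty, hwi]; simp [slMat, hs]
    | coe x =>
      rw [mob_coe]
      by_cases hx : x = 0
      · simp [hx, hwz, slMat]
      · rw [hwx x hx]
        simp [slMat, hs, hx]
        field_simp
  rintro _ ⟨v, rfl⟩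
  cases hv : M.hom v ∞ with
  | infty => exact hfix v hv
  | coe t =>
    obtain ⟨tt, htti, httx⟩ := M.translate_spec t
    have h : M.hom ((tt * w)⁻¹ * v) ∞ = ∞ := by
      rw [map_mul, Equiv.Perm.mul_apply, hv, map_inv, Equiv.Perm.inv_eq_iff_eq, map_mul,
        Equiv.Perm.mul_apply, hwi, httx, zero_add]
    have h' : M.hom v = M.hom tt * M.hom w * M.hom ((tt * w)⁻¹ * v) := by
      rw [← map_mul, ← map_mul, mul_inv_cancel_left]
    rw [h']
    exact mul_mem (mul_mem (hfix tt htti) hwmem) (hfix _ h)

include M in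
/-- A group of the right order with a model is `PSL(2, F)`. -/
theorem nonempty_equiv [Finite G]
    (hcard : 2 * Nat.card G = Fintype.card F * (Fintype.card F ^ 2 - 1)) :
    Nonempty (G ≃* Matrix.ProjectiveSpecialLinearGroup (Fin 2) F) := by
  classical
  let ψ : Matrix.ProjectiveSpecialLinearGroup (Fin 2) F →* Equiv.Perm (OnePoint F) :=
    QuotientGroup.lift _ (mob F) center_le_ker_mob
  have hle : M.hom.range ≤ ψ.range := fun x hx => by
    obtain ⟨A, rfl⟩ := M.range_le hm hm0 hx
    exact ⟨QuotientGroup.mk A, rfl⟩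
  have hpsl : Nat.card (Matrix.ProjectiveSpecialLinearGroup (Fin 2) F) = Nat.card G := by
    have h := CfsgLib.Linear.card_PSL_two_odd (F := F) ⟨m, hm⟩
    omega
  have hinj : Nat.card M.hom.range = Nat.card G :=
    (Nat.card_congr (MonoidHom.ofInjective M.hom_injective).toEquiv).symm
  haveI : Finite (OnePoint F) := inferInstanceAs (Finite (Option F))
  have h1 : Nat.card ψ.range ≤ Nat.card (Matrix.ProjectiveSpecialLinearGroup (Fin 2) F) :=
    Nat.le_of_dvd Nat.card_pos (Subgroup.card_range_dvd ψ)
  have heq : M.hom.range = ψ.range := Subgroup.eq_of_le_of_card_ge hle (by omega)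
  have hψ : Function.Injective ψ := by
    have hb' : Function.Bijective ψ.rangeRestrict := (Nat.bijective_iff_surjective_and_card _).2
      ⟨ψ.rangeRestrict_surjective, by rw [hpsl, ← heq, hinj]⟩
    exact fun x y h => hb'.1 (Subtype.ext h)
  exact ⟨((MonoidHom.ofInjective M.hom_injective).trans (MulEquiv.subgroupCongr heq)).trans
    (MonoidHom.ofInjective hψ).symm⟩

end Model

end CfsgLib.Classification.PSLTwoGeneral
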