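import Cfsg.Agent.BSW.Theorem
import Cfsg.Agent.Classification.PSLTwoGeneral.Field
import Cfsg.Agent.Classification.PSLTwoGeneral.Model

/-!
# `PSL(2, q)` from the conclusion of the Brauer–Suzuki–Wall theorem
-/

set_option autoImplicit false
set_option linter.style.haveILetI false

namespace CfsgLib.Classification.PSLTwoGeneral

open Subgroup
open scoped OnePoint Pointwise

/-- A group with an abelian trivial-intersection subgroup `Q` of order `q = 2 m + 1`, whose
normaliser is a Frobenius group `Q D` with `|D| = m`, inverted by an involution outside `D`, and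
of order `q (q² - 1) / 2`, is `PSL(2, q)`. -/
theorem exists_equiv_of_data {G : Type*} [Group G] [Finite G] (Q D : Subgroup G)
    (hcard : 2 * Nat.card G = Nat.card Q * (Nat.card Q + 1) * (Nat.card Q - 1))
    (hcent : ∀ x ∈ Q, x ≠ 1 → Subgroup.centralizer ({x} : Set G) = Q)
    (hDab : ∀ a ∈ D, ∀ b ∈ D, a * b = b * a) (hDcard : 2 * Nat.card D + 1 = Nat.card Q)
    (hQD : Q ⊓ D = ⊥) (hN : Subgroup.normalizer (Q : Set G) = Q ⊔ D) (hm2 : 2 ≤ Nat.card D)
    (u : G) (hu : u * u = 1) (huD : u ∉ D) (huinv : ∀ d ∈ D, u * d * u⁻¹ = d⁻¹) :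
    ∃ (F : Type) (_ : Field F) (_ : Fintype F), Fintype.card F = Nat.card Q ∧
      Nonempty (G ≃* Matrix.ProjectiveSpecialLinearGroup (Fin 2) F) := by
  classical
  set m := Nat.card D with hm
  set H := Subgroup.normalizer (Q : Set G) with hH
  have hQH : Q ≤ H := le_normalizer
  have hDH : D ≤ H := by rw [hN]; exact le_sup_right
  have hQcomm : ∀ x ∈ Q, ∀ y ∈ Q, x * y = y * x := by
    intro x hx y hy
    by_cases h1 : x = 1
    · rw [h1, one_mul, mul_one]
    · have : y ∈ Subgroup.centralizer ({x} : Set G) := by rw [hcent x hx h1]; exact hy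
      exact (mem_centralizer_singleton_iff.1 this).symm
  have hcomm_mem : ∀ x ∈ Q, x ≠ 1 → ∀ y, y * x = x * y → y ∈ Q := fun x hx h1 y hy => by
    rw [← hcent x hx h1]; exact mem_centralizer_singleton_iff.2 hy
  have hfpf : ∀ d ∈ D, ∀ x ∈ Q, x ≠ 1 → d * x = x * d → d = 1 := fun d hd x hx h1 hdx =>
    (Subgroup.mem_bot.1 (hQD ▸ ⟨hcomm_mem x hx h1 d hdx, hd⟩ : d ∈ (⊥ : Subgroup G)))
  have hTI : ∀ g x, x ∈ Q → x ≠ 1 → g * x * g⁻¹ ∈ Q → g ∈ H := by
    intro g x hx h1 hgx
    have hgx1 : g * x * g⁻¹ ≠ 1 := fun h => h1 (conj_eq_one_iff.1 h)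
    refine Subgroup.mem_normalizer_iff.2 fun n => ⟨fun hn => ?_, fun hn => ?_⟩
    · refine hcomm_mem _ hgx hgx1 _ ?_
      calc g * n * g⁻¹ * (g * x * g⁻¹) = g * (n * x) * g⁻¹ := by group
        _ = g * (x * n) * g⁻¹ := by rw [hQcomm n hn x hx]
        _ = g * x * g⁻¹ * (g * n * g⁻¹) := by group
    · refine hcomm_mem x hx h1 n ?_
      have h := hQcomm _ hn _ hgx
      calc n * x = g⁻¹ * (g * n * g⁻¹ * (g * x * g⁻¹)) * g := by group
        _ = g⁻¹ * (g * x * g⁻¹ * (g * n * g⁻¹)) * g := by rw [h]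
        _ = x * n := by group
  have hdecomp : ∀ h ∈ H, ∃ x ∈ Q, ∃ d ∈ D, h = x * d := by
    intro h hh
    rw [hN] at hh
    have hh' : h ∈ ((Q : Set G) * (D : Set G)) := by
      rw [← Subgroup.coe_mul_of_right_le_normalizer_left Q D hDH]; exact hh
    obtain ⟨x, hx, d, hd, rfl⟩ := Set.mem_mul.1 hh'
    exact ⟨x, hx, d, hd, rfl⟩
  have hconjQ : ∀ d ∈ D, ∀ x ∈ Q, d * x * d⁻¹ ∈ Q := fun d hd x hx =>
    (Subgroup.mem_normalizer_iff.1 (hDH hd) x).1 hx
  have hHcard : Nat.card H = Nat.card Q * m := by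
    let f : Q × D → H := fun p => ⟨(p.1 : G) * p.2, mul_mem (hQH p.1.2) (hDH p.2.2)⟩
    have hf : Function.Bijective f := by
      refine ⟨fun p p' h => ?_, fun h => ?_⟩
      · have h' : (p.1 : G) * p.2 = p'.1 * p'.2 := congrArg Subtype.val h
        have h2 : (p'.1 : G)⁻¹ * p.1 = p'.2 * (p.2 : G)⁻¹ := by
          rw [eq_mul_inv_iff_mul_eq, mul_assoc, h']; group
        have h3 : (p'.1 : G)⁻¹ * p.1 ∈ Q ⊓ D :=
          Subgroup.mem_inf.2 ⟨mul_mem (inv_mem p'.1.2) p.1.2, h2 ▸ mul_mem p'.2.2 (inv_mem p.2.2)⟩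
        rw [hQD, Subgroup.mem_bot] at h3
        have e1 : (p'.1 : G) = p.1 := inv_mul_eq_one.1 h3
        refine Prod.ext (Subtype.ext e1.symm) (Subtype.ext ?_)
        rw [h3, eq_comm, mul_inv_eq_one] at h2
        exact h2.symm
      · obtain ⟨x, hx, d, hd, e⟩ := hdecomp h h.2
        exact ⟨(⟨x, hx⟩, ⟨d, hd⟩), Subtype.ext e.symm⟩
    rw [← Nat.card_congr (Equiv.ofBijective f hf), Nat.card_prod]
  have hcop : Nat.Coprime (Nat.card Q) m := by
    rw [← hDcard, Nat.coprime_comm, mul_comm, Nat.coprime_mul_left_add_right]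
    exact Nat.coprime_one_right _
  have hQpow : ∀ h ∈ H, h ^ Nat.card Q = 1 → h ∈ Q := by
    intro h hh hpow
    obtain ⟨x, hx, d, hd, rfl⟩ := hdecomp h hh
    have key : ∀ n : ℕ, ∃ y ∈ Q, (x * d) ^ n = y * d ^ n := by
      intro n
      induction n with
      | zero => exact ⟨1, one_mem _, by simp⟩
      | succ n ih =>
        obtain ⟨y, hy, e⟩ := ih
        refine ⟨y * (d ^ n * x * (d ^ n)⁻¹), mul_mem hy (hconjQ _ (pow_mem hd n) x hx), ?_⟩
        rw [pow_succ, e, pow_succ]; group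
    obtain ⟨y, hy, e⟩ := key (Nat.card Q)
    rw [hpow] at e
    have hdq : d ^ Nat.card Q ∈ Q ⊓ D := Subgroup.mem_inf.2
      ⟨(eq_inv_of_mul_eq_one_right e.symm).symm ▸ inv_mem hy, pow_mem hd _⟩
    rw [hQD, Subgroup.mem_bot] at hdq
    have hdm : d ^ m = 1 := congrArg Subtype.val (pow_card_eq_one' (x := (⟨d, hd⟩ : D)))
    have hd1 : d = 1 := by
      have := pow_gcd_eq_one.2 ⟨hdq, hdm⟩
      rwa [hcop.gcd_eq_one, pow_one] at this
    rw [hd1, mul_one]; exact hx
  -- the field
  letI : CommGroup Q :=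
    { (inferInstance : Group Q) with mul_comm := fun a b => Subtype.ext (hQcomm a a.2 b b.2) }
  let ρ : D → AddMonoid.End (Additive Q) := fun d =>
    AddMonoidHom.mk'
      (fun a => Additive.ofMul ⟨(d : G) * ((Additive.toMul a : Q) : G) * (d : G)⁻¹,
        hconjQ d d.2 _ (Additive.toMul a).2⟩)
      (fun a b => congrArg Additive.ofMul (Subtype.ext (by
        show (d : G) * (((Additive.toMul a : Q) : G) * ((Additive.toMul b : Q) : G)) * (d : G)⁻¹ =
          ((d : G) * ((Additive.toMul a : Q) : G) * (d : G)⁻¹) *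
          ((d : G) * ((Additive.toMul b : Q) : G) * (d : G)⁻¹)
        group)))
  have hρ : ∀ (d : D) (a : Additive Q), ((Additive.toMul (ρ d a) : Q) : G) =
      (d : G) * ((Additive.toMul a : Q) : G) * (d : G)⁻¹ := fun d a => rfl
  have hext : ∀ {a b : Additive Q},
      ((Additive.toMul a : Q) : G) = ((Additive.toMul b : Q) : G) → a = b :=
    fun {a b} hab => Additive.toMul.injective (Subtype.ext hab)
  haveI : Nontrivial Q := Finite.one_lt_card_iff_nontrivial.1 (by omega)
  obtain ⟨⟨e, heQ⟩, he'⟩ := exists_ne (1 : Q)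
  have he1 : e ≠ 1 := fun h => he' (Subtype.ext h)
  obtain ⟨F, fF, fFin, τ, hFcard, hτ1, hmul⟩ := exists_field_of_irreducible ρ
    (fun i j => AddMonoidHom.ext fun a => hext (by
      show (i : G) * ((j : G) * ((Additive.toMul a : Q) : G) * (j : G)⁻¹) * (i : G)⁻¹ =
        (j : G) * ((i : G) * ((Additive.toMul a : Q) : G) * (i : G)⁻¹) * (j : G)⁻¹
      generalize ((Additive.toMul a : Q) : G) = w
      calc (i : G) * ((j : G) * w * (j : G)⁻¹) * (i : G)⁻¹
          = ((i : G) * j) * w * ((i : G) * j)⁻¹ := by group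
        _ = ((j : G) * i) * w * ((j : G) * i)⁻¹ := by rw [hDab i i.2 j j.2]
        _ = (j : G) * ((i : G) * w * (i : G)⁻¹) * (j : G)⁻¹ := by group))
    (Additive.ofMul (⟨e, heQ⟩ : Q))
    (fun h0 => he1 (congrArg Subtype.val (congrArg Additive.toMul h0)))
    (fun W hW => by
      by_cases hWbot : W = ⊥
      · exact Or.inl hWbot
      right
      obtain ⟨a, haW, ha0⟩ : ∃ a ∈ W, a ≠ 0 := by
        by_contra hall
        push Not at hall
        exact hWbot ((AddSubgroup.eq_bot_iff_forall W).2 hall)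
      have ha1 : ((Additive.toMul a : Q) : G) ≠ 1 := fun h => ha0 (hext h)
      let o : Option D → W := fun x => x.elim 0 fun d => ⟨ρ d a, hW d a haW⟩
      have ho : Function.Injective o := by
        have hne : ∀ d : D, ρ d a ≠ 0 := fun d h => ha1 (by
          have h' := congrArg (fun b => ((Additive.toMul b : Q) : G)) h
          exact conj_eq_one_iff.1 h')
        rintro (_ | d) (_ | d') h
        · rfl
        · exact absurd (congrArg Subtype.val h).symm (hne d')
        · exact absurd (congrArg Subtype.val h) (hne d)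
        · have h' : (d : G) * ((Additive.toMul a : Q) : G) * (d : G)⁻¹ =
              (d' : G) * ((Additive.toMul a : Q) : G) * (d' : G)⁻¹ :=
            congrArg (fun b : W => ((Additive.toMul (b : Additive Q) : Q) : G)) h
          generalize hw : ((Additive.toMul a : Q) : G) = w at h' ha1
          have hwQ : w ∈ Q := hw ▸ (Additive.toMul a).2
          have h1 : ((d' : G)⁻¹ * d) * w = w * ((d' : G)⁻¹ * d) := by
            calc ((d' : G)⁻¹ * d) * w = (d' : G)⁻¹ * ((d : G) * w * (d : G)⁻¹) * d := by group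
              _ = (d' : G)⁻¹ * ((d' : G) * w * (d' : G)⁻¹) * d := by rw [h']
              _ = w * ((d' : G)⁻¹ * d) := by group
          have h2 := hfpf _ (mul_mem (inv_mem d'.2) d.2) w hwQ ha1 h1
          exact congrArg some (Subtype.ext (inv_mul_eq_one.1 h2).symm)
      have hWcard := Nat.card_le_card_of_injective o ho
      rw [Finite.card_option] at hWcard
      obtain ⟨k, hk⟩ : Nat.card W ∣ Nat.card Q := AddSubgroup.card_addSubgroup_dvd_card W
      refine AddSubgroup.eq_top_of_card_eq W ?_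
      show Nat.card W = Nat.card Q
      rcases k with _ | _ | k
      · omega
      · omega
      · nlinarith)
  have hq : Fintype.card F = 2 * m + 1 := by
    rw [← Nat.card_eq_fintype_card, hFcard, ← hm] at *
    exact hDcard.symm
  let g₀ : F → G := fun x => ((Additive.toMul (τ x) : Q) : G)
  have hg₀Q : ∀ x, g₀ x ∈ Q := fun x => (Additive.toMul (τ x)).2
  have hg₀add : ∀ x y, g₀ (x + y) = g₀ x * g₀ y := fun x y => by
    simp only [g₀, map_add]; rfl
  have hg₀0 : g₀ 0 = 1 := by simp only [g₀, map_zero]; rfl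
  have hg₀1 : g₀ 1 = e := by simp only [g₀, hτ1]; rfl
  have hg₀inj : Function.Injective g₀ := fun x y h => τ.injective (hext h)
  have hg₀surj : ∀ y ∈ Q, ∃ x, g₀ x = y := fun y hy =>
    ⟨τ.symm (Additive.ofMul (⟨y, hy⟩ : Q)), by simp only [g₀, AddEquiv.apply_symm_apply]; rfl⟩
  choose α hα using hmul
  have hαc : ∀ (d : D) x, g₀ (α d * x) = d * g₀ x * (d : G)⁻¹ := fun d x => by
    simp only [g₀, hα]; rfl
  have hαm : ∀ d : D, α d ^ m = 1 := by
    intro d
    have key : ∀ n : ℕ, g₀ (α d ^ n) = (d : G) ^ n * g₀ 1 * ((d : G) ^ n)⁻¹ := by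
      intro n
      induction n with
      | zero => simp
      | succ n ih => rw [pow_succ', hαc, ih, pow_succ']; group
    refine hg₀inj ?_
    rw [key, show (d : G) ^ m = 1 from congrArg Subtype.val (pow_card_eq_one' (x := d))]
    simp
  have hαsurj : ∀ a : F, a ^ m = 1 → ∃ d : D, α d = a := by
    intro a ha
    let f : D → {x : F // x ^ m = 1} := fun d => ⟨α d, hαm d⟩
    have hf : Function.Injective f := by
      intro d d' h
      have h' : (d : G) * e * (d : G)⁻¹ = (d' : G) * e * (d' : G)⁻¹ := by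
        rw [← hg₀1, ← hαc, ← hαc, show α d = α d' from congrArg Subtype.val h]
      have h1 : ((d' : G)⁻¹ * d) * e = e * ((d' : G)⁻¹ * d) := by
        calc ((d' : G)⁻¹ * d) * e = (d' : G)⁻¹ * ((d : G) * e * (d : G)⁻¹) * d := by group
          _ = (d' : G)⁻¹ * ((d' : G) * e * (d' : G)⁻¹) * d := by rw [h']
          _ = e * ((d' : G)⁻¹ * d) := by group
      exact Subtype.ext (inv_mul_eq_one.1 (hfpf _ (mul_mem (inv_mem d'.2) d.2) e heQ he1 h1)).symm
    have hle : Nat.card {x : F // x ^ m = 1} ≤ Nat.card D := by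
      rw [Nat.card_eq_fintype_card, Fintype.card_subtype, ← hm]
      exact (Finset.card_le_card (t := (Polynomial.nthRoots m (1 : F)).toFinset)
        (fun a ha => Multiset.mem_toFinset.2
          ((Polynomial.mem_nthRoots (by omega)).2 (Finset.mem_filter.1 ha).2))).trans
        ((Multiset.toFinset_card_le _).trans (Polynomial.card_nthRoots _ _))
    obtain ⟨d, hd⟩ := (hf.bijective_of_nat_card_le hle).2 ⟨a, ha⟩
    exact ⟨d, congrArg Subtype.val hd⟩
  -- the involution lies outside `H`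
  have huH : u ∉ H := by
    intro huH
    obtain ⟨x, hx, d, hd, hxd⟩ := hdecomp u huH
    haveI : Nontrivial D := Finite.one_lt_card_iff_nontrivial.1 (by omega)
    obtain ⟨⟨d', hd'⟩, hne⟩ := exists_ne (1 : D)
    have hd'1 : d' ≠ 1 := fun h => hne (Subtype.ext h)
    have h1 : x * d' * x⁻¹ = d'⁻¹ := by
      rw [← huinv d' hd', show x = u * d⁻¹ by rw [hxd]; group]
      calc u * d⁻¹ * d' * (u * d⁻¹)⁻¹ = u * (d⁻¹ * d') * d * u⁻¹ := by group
        _ = u * (d' * d⁻¹) * d * u⁻¹ := by rw [hDab _ (inv_mem hd) _ hd']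
        _ = u * d' * u⁻¹ := by group
    have h2 : x * d' * x⁻¹ * d'⁻¹ ∈ Q ⊓ D := by
      refine Subgroup.mem_inf.2 ⟨?_, by rw [h1]; exact mul_mem (inv_mem hd') (inv_mem hd')⟩
      rw [show x * d' * x⁻¹ * d'⁻¹ = x * (d' * x⁻¹ * d'⁻¹) by group]
      exact mul_mem hx (hconjQ d' hd' _ (inv_mem hx))
    rw [hQD, Subgroup.mem_bot] at h2
    have hx1 : x = 1 := by
      by_contra hx1
      exact hd'1 (hfpf d' hd' x hx hx1 (by
        calc d' * x = (x * d' * x⁻¹ * d'⁻¹)⁻¹ * (x * d') := by group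
          _ = x * d' := by rw [h2, inv_one, one_mul]))
    rw [hx1, one_mul] at hxd
    exact huD (hxd ▸ hd)
  have huu : u⁻¹ = u := inv_eq_of_mul_eq_one_right hu
  -- the points
  let pt : F → G ⧸ H := fun x => ((g₀ x * u : G) : G ⧸ H)
  let φ : OnePoint F → G ⧸ H := fun o => o.elim ((1 : G) : G ⧸ H) pt
  have hptne : ∀ x, pt x ≠ ((1 : G) : G ⧸ H) := fun x h => by
    have h' : g₀ x * u ∈ H := by
      rw [eq_comm, QuotientGroup.eq, inv_one, one_mul] at h; exact h
    exact huH ((H.mul_mem_cancel_left (hQH (hg₀Q x))).1 h')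
  have hptinj : Function.Injective pt := by
    intro x y h
    by_contra hxy
    have h1 : u⁻¹ * g₀ (-x + y) * u ∈ H := by
      have h' := QuotientGroup.eq.1 h
      have hneg : g₀ (-x) = (g₀ x)⁻¹ := eq_inv_of_mul_eq_one_left (by
        rw [← hg₀add, neg_add_cancel, hg₀0])
      rwa [hg₀add, hneg, show u⁻¹ * ((g₀ x)⁻¹ * g₀ y) * u = (g₀ x * u)⁻¹ * (g₀ y * u) by group]
    have h2 : g₀ (-x + y) ≠ 1 := fun h => hxy (by
      rw [← hg₀0] at h
      linear_combination -(hg₀inj h))
    have h3 : (u⁻¹ * g₀ (-x + y) * u) ^ Nat.card Q = 1 := by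
      have hp : g₀ (-x + y) ^ Nat.card Q = 1 :=
        congrArg Subtype.val (pow_card_eq_one' (x := (⟨_, hg₀Q (-x + y)⟩ : Q)))
      rw [show u⁻¹ * g₀ (-x + y) * u = u⁻¹ * g₀ (-x + y) * u⁻¹⁻¹ by rw [inv_inv], conj_pow, hp]
      group
    have h4 := hTI u⁻¹ _ (hg₀Q _) h2 (by
      rw [inv_inv]; exact hQpow _ h1 h3)
    exact huH (by simpa using inv_mem h4)
  have hφinj : Function.Injective φ := by
    intro o o' h
    cases o with
    | infty =>
      cases o' with
      | infty => rfl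
      | coe y => exact absurd h.symm (hptne y)
    | coe x =>
      cases o' with
      | infty => exact absurd h (hptne x)
      | coe y => rw [hptinj h]
  haveI : Finite (OnePoint F) := inferInstanceAs (Finite (Option F))
  have hφ : Function.Bijective φ := by
    refine (Nat.bijective_iff_injective_and_card φ).2 ⟨hφinj, ?_⟩
    rw [show Nat.card (OnePoint F) = Nat.card (Option F) from rfl, Finite.card_option, hFcard]
    show Nat.card Q + 1 = H.index
    have h := H.index_mul_card
    rw [hHcard] at h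
    rw [← h, show Nat.card Q - 1 = 2 * m by omega] at hcard
    refine Nat.eq_of_mul_eq_mul_right
      (show 0 < Nat.card Q * m * 2 from mul_pos (mul_pos Nat.card_pos (by omega)) two_pos) ?_
    linarith
  let ε := Equiv.ofBijective φ hφ
  let π : G →* Equiv.Perm (OnePoint F) :=
    (Equiv.permCongrHom ε.symm).toMonoidHom.comp (MulAction.toPermHom G (G ⧸ H))
  have hπ : ∀ g o o', π g o = o' ↔ g • φ o = φ o' := fun g o o' => by
    show ε.symm (g • φ o) = o' ↔ _
    rw [Equiv.symm_apply_eq]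
    rfl
  have hinf : ∀ g, π g ∞ = ∞ ↔ g ∈ H := fun g => by
    rw [hπ]
    show ((g * 1 : G) : G ⧸ H) = ((1 : G) : G ⧸ H) ↔ _
    rw [eq_comm, QuotientGroup.eq, inv_one, one_mul, mul_one]
  have haff : ∀ (b : F) (d : D) (y : F), π (g₀ b * d) y = ((α d * y + b : F) : OnePoint F) := by
    intro b d y
    rw [hπ]
    show ((g₀ b * d * (g₀ y * u) : G) : G ⧸ H) = ((g₀ (α d * y + b) * u : G) : G ⧸ H)
    rw [eq_comm, QuotientGroup.eq, add_comm, hg₀add, hαc,
      show (g₀ b * ((d : G) * g₀ y * (d : G)⁻¹) * u)⁻¹ * (g₀ b * d * (g₀ y * u)) = u⁻¹ * d * u by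
        group]
    refine hDH ?_
    rw [huu]
    have := huinv d d.2
    rw [huu] at this
    rw [this]; exact inv_mem d.2
  have hαd : ∀ g ∈ H, ∃ (b : F) (d : D), g = g₀ b * d := fun g hg => by
    obtain ⟨x, hx, d, hd, rfl⟩ := hdecomp g hg
    obtain ⟨b, rfl⟩ := hg₀surj x hx
    exact ⟨b, ⟨d, hd⟩, rfl⟩
  have hπinj : Function.Injective π := by
    refine (injective_iff_map_eq_one π).2 fun g hg => ?_
    obtain ⟨b, d, rfl⟩ := hαd g ((hinf g).1 (by rw [hg]; rfl))
    have h0 : ∀ y : F, α d * y + b = y := fun y => OnePoint.coe_injective (by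
      rw [← haff b d y, hg]; rfl)
    have hb : b = 0 := by have := h0 0; rwa [mul_zero, zero_add] at this
    have hd : α d = 1 := by have := h0 1; rwa [hb, mul_one, add_zero] at this
    have h1 : (d : G) * e = e * d := by
      have := hαc d 1
      rw [hd, mul_one, hg₀1] at this
      exact (eq_mul_inv_iff_mul_eq.1 this).symm
    rw [hb, hg₀0, one_mul, hfpf d d.2 e heQ he1 h1]
  let M : Model G F m :=
    { hom := π
      hom_injective := hπinj
      affine := fun g hg => by
        obtain ⟨b, d, rfl⟩ := hαd g ((hinf g).1 hg)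
        exact ⟨α d, b, hαm d, haff b d⟩
      exists_affine := fun a b ha => by
        obtain ⟨d, rfl⟩ := hαsurj a ha
        exact ⟨g₀ b * d, (hinf _).2 (mul_mem (hQH (hg₀Q b)) (hDH d.2)), haff b d⟩
      exists_swap := by
        refine ⟨u, hu, ?_, fun a y z ha hyz => ?_⟩
        · rw [hπ]
          show ((u * 1 : G) : G ⧸ H) = ((g₀ 0 * u : G) : G ⧸ H)
          rw [mul_one, hg₀0, one_mul]
        · obtain ⟨d, rfl⟩ := hαsurj a ha
          have e1 : π (d : G) y = ((α d * y : F) : OnePoint F) := by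
            have := haff 0 d y
            rwa [hg₀0, one_mul, add_zero] at this
          have e2 : π (d : G) (((α d)⁻¹ * z : F) : OnePoint F) = z := by
            have := haff 0 d ((α d)⁻¹ * z)
            rw [hg₀0, one_mul, add_zero] at this
            rw [this, ← mul_assoc, mul_inv_cancel₀ (fun h => by
              have := hαm d
              rw [h, zero_pow (by omega)] at this
              exact zero_ne_one this), one_mul]
          have hud : u * (d : G) = (d : G)⁻¹ * u := by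
            rw [← huinv d d.2]; group
          rw [← e1, ← Equiv.Perm.mul_apply, ← map_mul, hud, map_mul, Equiv.Perm.mul_apply, hyz,
            map_inv, Equiv.Perm.inv_eq_iff_eq, e2] }
  refine ⟨F, fF, fFin, by omega, Model.nonempty_equiv hq (by omega) M ?_⟩
  rw [hcard, hq, ← hDcard]
  rw [show (2 * m + 1) ^ 2 - 1 = (2 * m + 1 + 1) * (2 * m) by
    have : (2 * m + 1) ^ 2 = (2 * m + 1 + 1) * (2 * m) + 1 := by ring
    omega, show 2 * m + 1 - 1 = 2 * m by omega]
  ring

/-- A group satisfying the conclusion of the Brauer–Suzuki–Wall theorem whose order is not `12`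
is `PSL(2, q)` for an odd prime power `q ≥ 5`. -/
theorem exists_equiv_of_conclusion {G : Type*} [Group G] [Finite G] (h : CfsgLib.BSW.Conclusion G)
    (h12 : Nat.card G ≠ 12) :
    ∃ (F : Type) (_ : Field F) (_ : Fintype F), Odd (Fintype.card F) ∧
      Nonempty (G ≃* Matrix.ProjectiveSpecialLinearGroup (Fin 2) F) := by
  obtain ⟨Q, D, hcard, hcent, hDab, hDcard, hQD, hN, hX⟩ := h
  have hD0 : 0 < Nat.card D := Nat.card_pos
  have hm2 : 2 ≤ Nat.card D := by
    by_contra hlt
    rw [← hDcard, show Nat.card D = 1 by omega] at hcard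
    omega
  have hDne : D ≠ ⊥ := fun e => by rw [e, Subgroup.card_bot] at hm2; omega
  obtain ⟨-, u, hu, huD, huinv, -⟩ := hX D le_rfl hDne
  obtain ⟨F, fF, fFin, hF, hiso⟩ := exists_equiv_of_data Q D hcard hcent
    (fun a ha b hb => congrArg Subtype.val (isMulCommutative_iff.1 hDab ⟨a, ha⟩ ⟨b, hb⟩))
    hDcard hQD hN hm2 u (by rw [← sq, ← hu]; exact pow_orderOf_eq_one u) huD huinv
  exact ⟨F, fF, fFin, ⟨Nat.card D, by omega⟩, hiso⟩

end CfsgLib.Classification.PSLTwoGeneral
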